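import Groth.Agent.Sga2lef.H96.ModSysPush

/-!
# Recognition of the completion of a module

`nonempty_iso_of_isKQuot`: compatible maps `p n : F ⟶ (i_n)_* 𝔐_n` which are the quotients by `𝓘^(n+1)` give
an isomorphism of the completion of `F` with `𝔐`.
-/

set_option autoImplicit false
universe u

open CategoryTheory AlgebraicGeometry Opposite

namespace Groth.Agent.Sga2lef.H96.ModSysRec

open AlgebraicGeometry.Scheme.Modules FSch
open Groth.Agent.FormalB.KQuot Groth.Agent.FormalB.TrKQuot Groth.Agent.Sga2lef.H96.Transp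
open Groth.Agent.Sga2lef.H96.ModSysPush

/-- A levelwise invertible morphism of systems is an isomorphism. -/
theorem nonempty_iso_of_app {𝔛 : Sys.{u}} {𝔐 𝔑 : ModSys 𝔛} (q : ∀ n, 𝔐.F n ⟶ 𝔑.F n)
    (hq : ∀ n, IsIso (q n))
    (hcomm : ∀ n, (pullback (𝔛.ι n)).map (q (n + 1)) ≫ (𝔑.e n).hom = (𝔐.e n).hom ≫ q n) :
    Nonempty (𝔐 ≅ 𝔑) := by
  let α : ModSys.Hom 𝔐 𝔑 := ⟨q, hcomm⟩
  have hβ : ∀ n, (pullback (𝔛.ι n)).map (inv (q (n + 1))) ≫ (𝔐.e n).hom =
      (𝔑.e n).hom ≫ inv (q n) := fun n => by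
    have h1 : (pullback (𝔛.ι n)).map (inv (q (n + 1))) ≫
        (pullback (𝔛.ι n)).map (q (n + 1)) = 𝟙 _ := by
      rw [← Functor.map_comp, IsIso.inv_hom_id, CategoryTheory.Functor.map_id]
    rw [← cancel_mono (q n), Category.assoc, Category.assoc, ← hcomm n, ← Category.assoc, h1,
      IsIso.inv_hom_id, Category.id_comp, Category.comp_id]
  let β : ModSys.Hom 𝔑 𝔐 := ⟨fun n => inv (q n), hβ⟩
  refine ⟨⟨α, β, ModSys.Hom.ext (funext fun n => IsIso.hom_inv_id (q n)),
    ModSys.Hom.ext (funext fun n => IsIso.inv_hom_id (q n))⟩⟩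

section E

variable {X : Scheme.{u}} (𝓘 : X.IdealSheafData)

/-- `V(𝓘^(n+1)) ⟶ V(𝓘^(n+2)) ⟶ X` is the inclusion. -/
theorem ι_toX (n : ℕ) : (completionAlong X 𝓘).ι n ≫ completionToX X 𝓘 (n + 1) =
    completionToX X 𝓘 n := Scheme.IdealSheafData.inclusion_subschemeι (FSch.pow_succ_le X 𝓘 n)

/-- Copy of the transition isomorphism of `completionMod`. -/
noncomputable def ee (F : X.Modules) (n : ℕ) :
    (Scheme.Modules.pullback ((completionAlong X 𝓘).ι n)).obj
      ((Scheme.Modules.pullback (completionToX X 𝓘 (n + 1))).obj F) ≅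
        (Scheme.Modules.pullback (completionToX X 𝓘 n)).obj F :=
  (Scheme.Modules.pullbackComp (Scheme.IdealSheafData.inclusion (pow_succ_le X 𝓘 n))
      (completionToX X 𝓘 (n + 1))).app F ≪≫
    (Scheme.Modules.pullbackCongr
      (Scheme.IdealSheafData.inclusion_subschemeι (pow_succ_le X 𝓘 n))).app F

/-- First part. -/
noncomputable def e1 (F : X.Modules) (n : ℕ) :
    (Scheme.Modules.pullback ((completionAlong X 𝓘).ι n)).obj
      ((Scheme.Modules.pullback (completionToX X 𝓘 (n + 1))).obj F) ≅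
        (Scheme.Modules.pullback ((completionAlong X 𝓘).ι n ≫ completionToX X 𝓘 (n + 1))).obj F :=
  (Scheme.Modules.pullbackComp (Scheme.IdealSheafData.inclusion (pow_succ_le X 𝓘 n))
      (completionToX X 𝓘 (n + 1))).app F

/-- Second part. -/
noncomputable def e2 (F : X.Modules) (n : ℕ) :
    (Scheme.Modules.pullback ((completionAlong X 𝓘).ι n ≫ completionToX X 𝓘 (n + 1))).obj F ≅
      (Scheme.Modules.pullback (completionToX X 𝓘 n)).obj F :=
  (Scheme.Modules.pullbackCongr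
    (Scheme.IdealSheafData.inclusion_subschemeι (pow_succ_le X 𝓘 n))).app F

/-- The system on the pullbacks of `F` with given transition isomorphisms. -/
noncomputable def cmOf (F : X.Modules) (e : ∀ n, (Scheme.Modules.pullback ((completionAlong X 𝓘).ι n)).obj
      ((Scheme.Modules.pullback (completionToX X 𝓘 (n + 1))).obj F) ≅
        (Scheme.Modules.pullback (completionToX X 𝓘 n)).obj F) : ModSys (completionAlong X 𝓘) where
  F n := (Scheme.Modules.pullback (completionToX X 𝓘 n)).obj F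
  e n := e n

theorem completionMod_eq_ee (F : X.Modules) : completionMod 𝓘 F = cmOf 𝓘 F (fun n => ee 𝓘 F n) := rfl

theorem ee_eq (F : X.Modules) (n : ℕ) : ee 𝓘 F n = e1 𝓘 F n ≪≫ e2 𝓘 F n := rfl

theorem e1_eq (F : X.Modules) (n : ℕ) : e1 𝓘 F n =
    (pullbackComp ((completionAlong X 𝓘).ι n) (completionToX X 𝓘 (n + 1))).app F := rfl

theorem e2_eq (F : X.Modules) (n : ℕ) : e2 𝓘 F n = (pullbackCongr (ι_toX 𝓘 n)).app F := rfl

/-- The transition isomorphisms of `completionMod` in terms of `qq`. -/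
theorem completionMod_eq (F : X.Modules) : completionMod 𝓘 F = cmOf 𝓘 F (fun n =>
    qq ((completionAlong X 𝓘).ι n) (completionToX X 𝓘 (n + 1)) (completionToX X 𝓘 n)
      (ι_toX 𝓘 n) F) := by
  refine (completionMod_eq_ee 𝓘 F).trans (congrArg (cmOf 𝓘 F) (funext fun n => ?_))
  rw [ee_eq, e1_eq, e2_eq]
  rfl

end E

variable {X : Scheme.{u}} {𝓘 : X.IdealSheafData} (𝔐 : ModSys (completionAlong X 𝓘))

/-- The transition maps of `𝔐` in terms of `Transp.tr`. -/
theorem ptr_eq (n : ℕ) : ptr 𝔐 n = tr ((completionAlong X 𝓘).ι n) (completionToX X 𝓘 (n + 1))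
    (completionToX X 𝓘 n) (ι_toX 𝓘 n) (𝔐.e n).hom := rfl

/-- **Recognition of the completion.** Compatible maps `p n : F ⟶ (i_n)_* 𝔐_n` which are the quotients by
`𝓘^(n+1)` give an isomorphism of the completion of `F` with `𝔐`. -/
theorem nonempty_iso_of_isKQuot (F : X.Modules) (hF : Coh.IsQCoh F) (p : ∀ n, F ⟶ pm 𝔐 n)
    (hp : ∀ n, IsKQuot (𝓘 ^ (n + 1)) (p n)) (hpt : ∀ n, p (n + 1) ≫ ptr 𝔐 n = p n) :
    Nonempty (completionMod 𝓘 F ≅ 𝔐) := by
  choose q hq using fun n => ((pullbackPushforwardAdjunction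
    (completionToX X 𝓘 n)).homEquiv F (𝔐.F n)).surjective (p n)
  rw [completionMod_eq]
  refine nonempty_iso_of_app (𝔐 := cmOf 𝓘 F (fun n =>
    qq ((completionAlong X 𝓘).ι n) (completionToX X 𝓘 (n + 1)) (completionToX X 𝓘 n)
      (ι_toX 𝓘 n) F)) q (fun n => ?_) (fun n => ?_)
  · have h1 := hp n
    rw [← hq n] at h1
    exact isIso_of_isKQuot (𝓘 ^ (n + 1)) hF (q n) h1
  · exact (homEquiv_tr ((completionAlong X 𝓘).ι n) (completionToX X 𝓘 (n + 1))
      (completionToX X 𝓘 n) (ι_toX 𝓘 n) (𝔐.e n).hom (q (n + 1)) (q n)).1 (by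
        rw [hq (n + 1), hq n, ← ptr_eq]
        exact hpt n)

end Groth.Agent.Sga2lef.H96.ModSysRec
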