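import Groth.Agent.S0821
import Groth.Agent.Sga2.GrLoc
import Groth.Agent.Localalg.DepthLC
import Groth.Agent.Sga2lef.H96.MuOp

/-!
# Finiteness of `H^0(G)`, `H^1(G)` on the punctured spectrum, `G` finite locally free over `O/J`, depth `A/J ≥ 3`
-/

set_option autoImplicit false
universe u

open CategoryTheory CategoryTheory.Limits AlgebraicGeometry Opposite TopologicalSpace

namespace Groth.Agent.Sga2lef.H96.GrFin

open Groth.Agent.FormalB.ModPow Groth.Agent.FormalB.PuncTheta Groth.Agent.FormalB.PuncTheta2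
open Groth.Agent.FormalB.FreeUpTo Groth.Agent.FormalB.HMod Groth.Agent.Sga2.GrReg
open Groth.Agent.Sga2.GrLoc

variable (A : Type u) [CommRing A] [IsNoetherianRing A] [IsLocalRing A]

omit [IsNoetherianRing A] in
theorem idealDepth_ge_three (M : Type u) [AddCommGroup M] [Module A M] {x y z : A}
    (hx : x ∈ IsLocalRing.maximalIdeal A)
    (hy : y ∈ IsLocalRing.maximalIdeal A) (hz : z ∈ IsLocalRing.maximalIdeal A)
    (h : Reg3 M x y z) : (3 : ℕ∞) ≤ LocCoh.idealDepth (IsLocalRing.maximalIdeal A) M := by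
  rw [LocCoh.idealDepth]
  split_ifs with hne
  · exact le_top
  · refine le_iSup₂_of_le [x, y, z] ⟨(reg3_iff x y z).1 h, ?_⟩ le_rfl
    intro r hr
    simp only [List.mem_cons, List.not_mem_nil, or_false] at hr
    rcases hr with rfl | rfl | rfl <;> assumption

variable {A} {J : Ideal A} [IsLocalRing (A ⧸ J)]
  (hd : (3 : ℕ∞) ≤ LocCoh.depth (A ⧸ J) (A ⧸ J))

include hd in
theorem subsingleton_H (i : ℕ) (hi : i < 3) :
    Subsingleton (LocCoh.H (IsLocalRing.maximalIdeal A) i (A ⧸ J)) := by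
  obtain ⟨x, hx, y, hy, z, hz, h⟩ := exists_reg3_quot hd
  refine Localalg.DepthLC.subsingleton_H_of_lt_idealDepth _ _ i (lt_of_lt_of_le ?_
    (idealDepth_ge_three A (A ⧸ J) hx hy hz h))
  exact_mod_cast hi

include hd in
/-- **Finiteness of `H^1`.** -/
theorem finite_H1 (G : (↑(LocCoh.puncturedOpen A (IsLocalRing.maximalIdeal A)) : Scheme.{u}).Modules)
    (hG : Coh.IsCoh G) (hk : Formal.KilledBy J G) (hfree : Formal2.IsFinLocFreeMod J 1 G) :
    Module.Finite A ((HM A (LocCoh.puncturedOpen A (IsLocalRing.maximalIdeal A) :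
      Scheme.{u}) 1).obj G) := by
  have h1 := subsingleton_H hd 1 (by norm_num)
  have h2 := subsingleton_H hd 2 (by norm_num)
  have hfin : Module.Finite A (LocCoh.H (IsLocalRing.maximalIdeal A) 1 (A ⧸ J)) := inferInstance
  let π : (A ⧸ J ^ 1) →ₗ[A] (A ⧸ J) := Submodule.mapQ _ _ LinearMap.id (by rw [pow_one]; exact le_rfl)
  have hfg : (LinearMap.range ((HM A (LocCoh.puncturedOpen A (IsLocalRing.maximalIdeal A) :
      Scheme.{u}) 1).map (𝟙 G)).hom).FG :=
    Groth.Agent.S0821.range_fg (IsLocalRing.maximalIdeal A) J 1 hG hG (𝟙 G) hk hfree hfree hfin π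
      (fun a => rfl) 0 (fun a _ x => Subsingleton.elim (α := LocCoh.H (IsLocalRing.maximalIdeal A) 2 (A ⧸ J)) _ _)
  have h3 : LinearMap.range ((HM A (LocCoh.puncturedOpen A (IsLocalRing.maximalIdeal A) :
      Scheme.{u}) 1).map (𝟙 G)).hom = ⊤ := by
    rw [CategoryTheory.Functor.map_id]
    exact LinearMap.range_id
  rw [h3] at hfg
  exact ⟨hfg⟩

include hd in
/-- **Finiteness of `H^0`.** -/
theorem finite_H0 (G : (↑(LocCoh.puncturedOpen A (IsLocalRing.maximalIdeal A)) : Scheme.{u}).Modules)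
    (hG : Coh.IsCoh G) (hfree : Formal2.IsFinLocFreeMod J 1 G) :
    Module.Finite A ((HM A (LocCoh.puncturedOpen A (IsLocalRing.maximalIdeal A) :
      Scheme.{u}) 0).obj G) := by
  have h1 := subsingleton_H hd 1 (by norm_num)
  have hH0 : Module.Finite A (LocCoh.H (IsLocalRing.maximalIdeal A) 1 (A ⧸ J)) := inferInstance
  have hUc : IsCompact (LocCoh.puncturedOpen A (IsLocalRing.maximalIdeal A) :
      Set (Spec (CommRingCat.of A))) := Groth.Agent.FormalA.InjSec.isCompact_opens _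
  obtain ⟨N, _, _, hN, ⟨e⟩⟩ := exists_finite_iso _ hUc G hG
  obtain ⟨m, g, r, hg, -, hfr⟩ := Groth.Agent.S0821.exists_free_cover (IsLocalRing.maximalIdeal A)
    J 1 G hfree e
  have hfr' : ∀ i, IsFreeUpTo (g i) (A ⧸ J) N (Fin (r i)) := by
    rw [pow_one] at hfr
    exact hfr
  have hB0 := FormalB.PuncDelta.finite_HH_zero (IsLocalRing.maximalIdeal A) (A ⧸ J) hH0
  have h0 := FormalB.DeltaFin.finite_zero (LocCoh.puncturedOpen A (IsLocalRing.maximalIdeal A))
    (FormalB.HHDelta.hhDelta (LocCoh.puncturedOpen A (IsLocalRing.maximalIdeal A) : Scheme.{u}) A)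
    (fun φ _ => FormalB.GamZero.hh_zero_injective _ φ)
    g hg (fun i => Fin (r i)) (fun i => inferInstance) hfr' hB0
  exact @Module.Finite.equiv A ((HM A (LocCoh.puncturedOpen A (IsLocalRing.maximalIdeal A) :
      Scheme.{u}) 0).obj
      ((Theta (LocCoh.puncturedOpen A (IsLocalRing.maximalIdeal A))).obj (ModuleCat.of A N)))
      _ _ _ _ _ _ h0
      ((HM A (LocCoh.puncturedOpen A (IsLocalRing.maximalIdeal A) : Scheme.{u}) 0).mapIso
        e).toLinearEquiv

include hd in
/-- `H^1` is killed by a power of the maximal ideal. -/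
theorem exists_kill_H1 (G : (↑(LocCoh.puncturedOpen A (IsLocalRing.maximalIdeal A)) : Scheme.{u}).Modules)
    (hG : Coh.IsCoh G) (hk : Formal.KilledBy J G) (hfree : Formal2.IsFinLocFreeMod J 1 G) :
    ∃ e : ℕ, ∀ b ∈ IsLocalRing.maximalIdeal A ^ e,
      ∀ x : (HM A (LocCoh.puncturedOpen A (IsLocalRing.maximalIdeal A) : Scheme.{u}) 1).obj G,
        b • x = 0 := by
  classical
  obtain ⟨s, hs⟩ := (finite_H1 hd G hG hk hfree).fg_top
  choose e he using fun x => Groth.Agent.S0822.torsion_of_coh (IsLocalRing.maximalIdeal A) G hG x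
  refine ⟨s.sup e, fun b hb x => ?_⟩
  have hx : x ∈ Submodule.span A (s : Set _) := by rw [hs]; trivial
  refine Submodule.span_induction (p := fun x _ => b • x = 0) ?_ (smul_zero b) ?_ ?_ hx
  · intro x hx
    exact he x b (Ideal.pow_le_pow_right (Finset.le_sup hx) hb)
  · intro x y _ _ hx hy
    rw [smul_add, hx, hy, add_zero]
  · intro c x _ hx
    rw [smul_comm, hx, smul_zero]

end Groth.Agent.Sga2lef.H96.GrFin
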