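import Groth.Agent.Sga2lef.H96.MuOp
import Groth.Agent.FormalB.PuncAlg

/-!
# Algebraization of a formal system from its cohomology tower

`V ⊆ Spec A` quasi-compact open, `G` a quasi-coherent formal system on `V` for `J`. If the cohomology of the kernels
`KS G n` in degrees `0` and `1` is generated by `H^0(G_0)`, `H^1(G_0)` under multiplication by elements of `J`, if
these two are finite and `H^1(G_0)` is killed by a power of an ideal without zeros on `V`, and `A` is `J`-adically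
complete, then `G` is the completion of a coherent module.
-/

set_option autoImplicit false
universe u

open CategoryTheory CategoryTheory.Limits AlgebraicGeometry Opposite TopologicalSpace

namespace Groth.Agent.Sga2lef.H96.GrAlgebraize

open Groth.Agent.FormalB.HMod Groth.Agent.FormalB.TildeOpen Groth.Agent.FormalB.ModPow
  Groth.Agent.FormalB.PuncSec Groth.Agent.FormalB.PuncAlg Groth.Agent.Sga2lef.H96.MuOp
  Groth.Agent.FormalB.AdicSys

variable (A : Type u) [CommRing A] (V : (Spec (CommRingCat.of A)).Opens)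

theorem exists_desc {L S : ModuleCat.{u} A} (φ : L ⟶ S) (K : Submodule A L)
    (hK : ∀ x ∈ K, φ x = 0) :
    ∃ ψ : ModuleCat.of A (L ⧸ K) ⟶ S, ModuleCat.ofHom K.mkQ ≫ ψ = φ :=
  ⟨ModuleCat.ofHom (K.liftQ φ.hom hK), by ext x; rfl⟩

/-- the injection induced on the quotient by the kernel. -/
noncomputable def kerDesc {L S : ModuleCat.{u} A} (φ : L ⟶ S) :
    ModuleCat.of A (L ⧸ LinearMap.ker φ.hom) ⟶ S :=
  ModuleCat.ofHom ((LinearMap.ker φ.hom).liftQ φ.hom le_rfl)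

theorem kerDesc_apply {L S : ModuleCat.{u} A} (φ : L ⟶ S) (x : L) :
    kerDesc A φ ((LinearMap.ker φ.hom).mkQ x) = φ x := rfl

theorem mkQ_kerDesc {L S : ModuleCat.{u} A} (φ : L ⟶ S) :
    ModuleCat.ofHom (LinearMap.ker φ.hom).mkQ ≫ kerDesc A φ = φ := by
  ext x
  rfl

theorem kerDesc_injective {L S : ModuleCat.{u} A} (φ : L ⟶ S)
    (x : (ModuleCat.of A (L ⧸ LinearMap.ker φ.hom) : ModuleCat.{u} A))
    (hx : kerDesc A φ x = 0) : x = 0 := by
  obtain ⟨x, rfl⟩ := (LinearMap.ker φ.hom).mkQ_surjective x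
  rw [Submodule.mkQ_apply, Submodule.Quotient.mk_eq_zero]
  exact hx

theorem hom_smul_zero_of {L S : ModuleCat.{u} A} (φ : L ⟶ S) (a : A)
    (h : ModuleCat.ofHom (LinearMap.lsmul A L a) ≫ φ = 0) (x : L) : φ (a • x) = 0 := by
  exact congr($(h) x)

theorem hom_zero_of_mem {L S : ModuleCat.{u} A} (φ : L ⟶ S) (J' : Ideal A)
    (h : ∀ a ∈ J', ModuleCat.ofHom (LinearMap.lsmul A L a) ≫ φ = 0) (x : L)
    (hx : x ∈ (J' • ⊤ : Submodule A L)) : φ x = 0 := by
  refine Submodule.smul_induction_on hx (fun a ha m _ => hom_smul_zero_of A φ a (h a ha) m) ?_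
  intro x y hx hy
  rw [map_add, hx, hy, add_zero]

/-- a morphism out of `tV L` killing multiplication by `J'` factors through quotients of `L` by submodules of
`J' L`. -/
theorem exists_factor {L : ModuleCat.{u} A} (K : Submodule A L) (J' : Ideal A)
    (hK : K ≤ J' • (⊤ : Submodule A L)) {Z : (V : Scheme.{u}).Modules} (φ : (tV V).obj L ⟶ Z)
    (hφ : ∀ a ∈ J', Formal.smulMod A ((tV V).obj L) a ≫ φ = 0) :
    ∃ ψ : (tV V).obj (ModuleCat.of A (L ⧸ K)) ⟶ Z, (tV V).map (ModuleCat.ofHom K.mkQ) ≫ ψ = φ := by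
  have hr : (sV V).IsRightAdjoint := (adjV V).isRightAdjoint
  have h3 : (adjV V).homEquiv L Z 0 = 0 := by
    rw [Adjunction.homEquiv_unit]
    have h4 : (sV V).map (0 : (tV V).obj L ⟶ Z) = 0 := by
      have h5 : (sV V).PreservesZeroMorphisms := Functor.preservesZeroMorphisms_of_isRightAdjoint _
      exact (sV V).map_zero _ _
    rw [h4]
    exact comp_zero
  have h1 : ∀ a ∈ J', ModuleCat.ofHom (LinearMap.lsmul A L a) ≫ (adjV V).homEquiv _ _ φ = 0 := by
    intro a ha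
    rw [← Adjunction.homEquiv_naturality_left, tV_map_smul A V L a, hφ a ha, h3]
  obtain ⟨ψ', hψ'⟩ := exists_desc A ((adjV V).homEquiv _ _ φ) K
    (fun x hx => hom_zero_of_mem A _ J' h1 x (hK hx))
  refine ⟨((adjV V).homEquiv _ _).symm ψ', ?_⟩
  rw [← Adjunction.homEquiv_naturality_left_symm, hψ']
  exact Equiv.symm_apply_apply _ _

section Abs

variable {A} {M : ℕ → ModuleCat.{u} A} (t : ∀ n, M (n + 1) ⟶ M n)

/-- the limit of a tower in `ModuleCat`. -/
noncomputable abbrev limM : ModuleCat.{u} A :=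
  ModuleCat.of A (Lim (M := fun n => M n) (fun n => (t n).hom))

/-- the projections -/
noncomputable def prM (n : ℕ) : limM t ⟶ M n :=
  ModuleCat.ofHom (Lim.proj (M := fun n => M n) (fun n => (t n).hom) n)

theorem prM_apply (n : ℕ) (x : limM t) : prM t n x = x.1 n := rfl

theorem prM_succ (n : ℕ) : prM t (n + 1) ≫ t n = prM t n := by
  ext x
  exact x.2 n

theorem prM_eq_zero_of_le {m n : ℕ} (h : m ≤ n) (x : limM t) (hx : prM t n x = 0) :
    prM t m x = 0 :=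
  Lim.eq_zero_of_le (M := fun n => M n) x h hx

end Abs

/-- the transition maps on `H^0`. -/
noncomputable abbrev tH (G : ℕᵒᵖ ⥤ (V : Scheme.{u}).Modules) (n : ℕ) :
    (HM A (V : Scheme.{u}) 0).obj (G.obj (op (n + 1))) ⟶
      (HM A (V : Scheme.{u}) 0).obj (G.obj (op n)) :=
  (HM A (V : Scheme.{u}) 0).map (trm G (Nat.le_succ n))

/-- the limit of the `H^0`. -/
noncomputable abbrev limL (G : ℕᵒᵖ ⥤ (V : Scheme.{u}).Modules) : ModuleCat.{u} A :=
  limM (M := fun n => (HM A (V : Scheme.{u}) 0).obj (G.obj (op n))) (tH A V G)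

/-- the projections -/
noncomputable abbrev prL (G : ℕᵒᵖ ⥤ (V : Scheme.{u}).Modules) (n : ℕ) :
    limL A V G ⟶ (HM A (V : Scheme.{u}) 0).obj (G.obj (op n)) :=
  prM (M := fun n => (HM A (V : Scheme.{u}) 0).obj (G.obj (op n))) (tH A V G) n

theorem prL_succ (G : ℕᵒᵖ ⥤ (V : Scheme.{u}).Modules) (n : ℕ) :
    prL A V G (n + 1) ≫ (HM A (V : Scheme.{u}) 0).map (trm G (Nat.le_succ n)) = prL A V G n :=
  prM_succ (M := fun n => (HM A (V : Scheme.{u}) 0).obj (G.obj (op n))) (tH A V G) n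

/-- the projections to sections -/
noncomputable def phL (G : ℕᵒᵖ ⥤ (V : Scheme.{u}).Modules) (n : ℕ) :
    limL A V G ⟶ (sV V).obj (G.obj (op n)) := prL A V G n ≫ eHom A V (G.obj (op n))

theorem phL_apply (G : ℕᵒᵖ ⥤ (V : Scheme.{u}).Modules) (n : ℕ) (x : limL A V G) :
    phL A V G n x = eLin A V (G.obj (op n)) (prL A V G n x) := rfl

theorem eHom_sV (G G' : (V : Scheme.{u}).Modules) (φ : G ⟶ G') :
    eHom A V G ≫ (sV V).map φ = (HM A (V : Scheme.{u}) 0).map φ ≫ eHom A V G' := by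
  ext x
  exact (eLin_naturality A V φ x).symm

theorem phL_succ (G : ℕᵒᵖ ⥤ (V : Scheme.{u}).Modules) (n : ℕ) :
    phL A V G (n + 1) ≫ (sV V).map (trm G (Nat.le_succ n)) = phL A V G n := by
  rw [phL, Category.assoc, eHom_sV, ← Category.assoc, prL_succ, phL]

theorem phL_le (G : ℕᵒᵖ ⥤ (V : Scheme.{u}).Modules) {n m : ℕ} (h : n ≤ m) :
    phL A V G m ≫ (sV V).map (trm G h) = phL A V G n := by
  induction m, h using Nat.le_induction with
  | base =>
    rw [trm_self, CategoryTheory.Functor.map_id]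
    exact Category.comp_id _
  | succ m hm ih =>
    rw [← trm_trm G hm (Nat.le_succ m), Functor.map_comp, ← Category.assoc, phL_succ, ih]

/-- the maps `tV L ⟶ G_n`. -/
noncomputable def ppL (G : ℕᵒᵖ ⥤ (V : Scheme.{u}).Modules) (n : ℕ) :
    (tV V).obj (limL A V G) ⟶ G.obj (op n) := ((adjV V).homEquiv _ _).symm (phL A V G n)

theorem ppL_le (G : ℕᵒᵖ ⥤ (V : Scheme.{u}).Modules) {n m : ℕ} (h : n ≤ m) :
    ppL A V G m ≫ trm G h = ppL A V G n := by
  rw [ppL, ppL, ← Adjunction.homEquiv_naturality_right_symm, phL_le]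

/-- `ppL n` is `tV` of the quotient by the kernel. -/
theorem exists_iso_ppL (𝔞 : Ideal A)
    (hV : ∀ x ∈ V, ¬ 𝔞 ≤ x.asIdeal) (hVc : IsCompact (V : Set (Spec (CommRingCat.of A))))
    (G : ℕᵒᵖ ⥤ (V : Scheme.{u}).Modules) (hqc : ∀ n : ℕ, Coh.IsQCoh (G.obj (op n))) (n : ℕ)
    (hn : ∃ e : ℕ, ∀ b ∈ 𝔞 ^ e, ∀ y : (HM A (V : Scheme.{u}) 0).obj (G.obj (op n)),
      ∃ x : limL A V G, prL A V G n x = b • y) :
    ∃ e : (tV V).obj (ModuleCat.of A (limL A V G ⧸ LinearMap.ker (phL A V G n).hom)) ≅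
      G.obj (op n), (tV V).map (ModuleCat.ofHom (LinearMap.ker (phL A V G n).hom).mkQ) ≫ e.hom =
        ppL A V G n := by
  have hc := isIso_counit V hVc (G.obj (op n)) (hqc n)
  have h2 : IsIso ((tV V).map (kerDesc A (phL A V G n))) := by
    refine isIso_tV_map V (kerDesc A (phL A V G n)) 𝔞 hV ?_ ?_
    · intro x hx k _
      exact ⟨0, by rw [kerDesc_injective A _ x hx, smul_zero]⟩
    · intro y k hk
      obtain ⟨e, he⟩ := hn
      obtain ⟨x, hx⟩ := he (k ^ e) (Ideal.pow_mem_pow hk e)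
        ((eLin A V (G.obj (op n))).symm y)
      refine ⟨e, (LinearMap.ker (phL A V G n).hom).mkQ x, ?_⟩
      rw [kerDesc_apply, phL_apply, hx, map_smul, LinearEquiv.apply_symm_apply]
  have hp : ppL A V G n = (tV V).map (phL A V G n) ≫ (adjV V).counit.app (G.obj (op n)) :=
    Adjunction.homEquiv_counit _ _ _ _
  refine ⟨@asIso _ _ _ _ ((tV V).map (kerDesc A (phL A V G n))) h2 ≪≫ @asIso _ _ _ _ _ hc, ?_⟩
  have h3 : (tV V).map (ModuleCat.ofHom (LinearMap.ker (phL A V G n).hom).mkQ) ≫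
      (tV V).map (kerDesc A (phL A V G n)) = (tV V).map (phL A V G n) := by
    rw [← Functor.map_comp, mkQ_kerDesc]
  rw [hp, ← h3, Category.assoc]
  rfl

theorem isModPow_ppL {J : Ideal A} (𝔞 : Ideal A)
    (hV : ∀ x ∈ V, ¬ 𝔞 ≤ x.asIdeal) (hVc : IsCompact (V : Set (Spec (CommRingCat.of A))))
    (G : ℕᵒᵖ ⥤ (V : Scheme.{u}).Modules) (hG : IsFormal J G)
    (hqc : ∀ n : ℕ, Coh.IsQCoh (G.obj (op n)))
    (hsurj : ∀ n, ∃ e : ℕ, ∀ b ∈ 𝔞 ^ e, ∀ y : (HM A (V : Scheme.{u}) 0).obj (G.obj (op n)),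
      ∃ x : limL A V G, prL A V G n x = b • y)
    (hdeep : ∀ n, ∃ N : ℕ, ∀ x : limL A V G, prL A V G N x = 0 → x ∈ (J ^ n • ⊤ : Submodule A (limL A V G)))
    (n : ℕ) : IsModPow (J ^ (n + 1)) (ppL A V G n) := by
  obtain ⟨N₀, hN₀⟩ := hdeep (n + 1)
  -- pass to `N ≥ n`
  obtain ⟨N, hnN, hN⟩ : ∃ N, n ≤ N ∧ ∀ x : limL A V G, prL A V G N x = 0 →
      x ∈ (J ^ (n + 1) • ⊤ : Submodule A (limL A V G)) := by
    refine ⟨max n N₀, le_max_left _ _, fun x hx => hN₀ x ?_⟩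
    exact prM_eq_zero_of_le (M := fun n => (HM A (V : Scheme.{u}) 0).obj (G.obj (op n)))
      (tH A V G) (le_max_right _ _) x hx
  obtain ⟨e, he⟩ := exists_iso_ppL A V 𝔞 hV hVc G hqc N (hsurj N)
  have hepi : Epi (ppL A V G N) := by
    have h1 : Epi (ModuleCat.ofHom (LinearMap.ker (phL A V G N).hom).mkQ) := by
      rw [ModuleCat.epi_iff_surjective]
      exact Submodule.mkQ_surjective _
    have hl : (tV V).IsLeftAdjoint := (adjV V).isLeftAdjoint
    rw [← he]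
    infer_instance
  have htr := epi_trm hG hnN
  have hpn : ppL A V G n = ppL A V G N ≫ trm G hnN := (ppL_le A V G hnN).symm
  refine ⟨?_, fun a ha => ?_, fun {Z} φ hφ => ?_⟩
  · rw [hpn]
    infer_instance
  · rw [smulMod_naturality, hG.killed n a ha, comp_zero]
  · obtain ⟨ψ, hψ⟩ := exists_factor A V (LinearMap.ker (phL A V G N).hom) (J ^ (n + 1)) (by
      intro x hx
      refine hN x ?_
      have h1 : eLin A V (G.obj (op N)) (prL A V G N x) = 0 := hx
      exact (eLin A V (G.obj (op N))).injective (by rw [h1, map_zero])) φ hφ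
    have h2 : ppL A V G N ≫ (e.inv ≫ ψ) = φ := by
      rw [← he, Category.assoc, e.hom_inv_id_assoc, hψ]
    obtain ⟨χ, hχ⟩ := (hG.isModPow hnN).desc (e.inv ≫ ψ) (fun a ha => by
      rw [← cancel_epi (ppL A V G N), ← Category.assoc, ← smulMod_naturality, Category.assoc,
        h2, hφ a ha, comp_zero])
    exact ⟨χ, by rw [hpn, Category.assoc, hχ, h2]⟩

/-- Algebraization from the properties of the limit. -/
theorem algebraize_of_lim {J : Ideal A} (𝔞 : Ideal A)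
    (hV : ∀ x ∈ V, ¬ 𝔞 ≤ x.asIdeal) (hVc : IsCompact (V : Set (Spec (CommRingCat.of A))))
    (G : ℕᵒᵖ ⥤ (V : Scheme.{u}).Modules) (hG : IsFormal J G)
    (hqc : ∀ n : ℕ, Coh.IsQCoh (G.obj (op n)))
    (hfin : Module.Finite A (limL A V G))
    (hsurj : ∀ n, ∃ e : ℕ, ∀ b ∈ 𝔞 ^ e, ∀ y : (HM A (V : Scheme.{u}) 0).obj (G.obj (op n)),
      ∃ x : limL A V G, prL A V G n x = b • y)
    (hdeep : ∀ n, ∃ N : ℕ, ∀ x : limL A V G, prL A V G N x = 0 → x ∈ (J ^ n • ⊤ : Submodule A (limL A V G))) :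
    ∃ F : (V : Scheme.{u}).Modules, Coh.IsCoh F ∧ Nonempty (Formal.completion J F ≅ G) :=
  ⟨(tV V).obj (limL A V G), isCoh_tV A V _ hfin,
    ⟨completionIso J (ppL A V G) (isModPow_ppL A V 𝔞 hV hVc G hG hqc hsurj hdeep)
      (fun n => ppL_le A V G (Nat.le_succ n))⟩⟩

/-- **Algebraization** of a formal system on an open of `Spec A` from its cohomology tower. -/
theorem algebraize [IsNoetherianRing A] {J : Ideal A} [IsPrecomplete J A] (𝔞 : Ideal A)
    (hV : ∀ x ∈ V, ¬ 𝔞 ≤ x.asIdeal) (hVc : IsCompact (V : Set (Spec (CommRingCat.of A))))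
    (G : ℕᵒᵖ ⥤ (V : Scheme.{u}).Modules) (hG : IsFormal J G)
    (hqc : ∀ n : ℕ, Coh.IsQCoh (G.obj (op n))) {ι : Type} [Fintype ι] (a : ι → A)
    (ha : ∀ j, a j ∈ J)
    (hg0 : ∀ n, (⊤ : Submodule A ((HM A (V : Scheme.{u}) 0).obj (KS G (n + 1)))) ≤
      ⨆ j, LinearMap.range ((HM A (V : Scheme.{u}) 0).map (kap hG n (ha j))).hom)
    (hg1 : ∀ n, (⊤ : Submodule A ((HM A (V : Scheme.{u}) 1).obj (KS G (n + 1)))) ≤
      ⨆ j, LinearMap.range ((HM A (V : Scheme.{u}) 1).map (kap hG n (ha j))).hom)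
    (h0 : Module.Finite A ((HM A (V : Scheme.{u}) 0).obj (KS G 0)))
    (h1 : Module.Finite A ((HM A (V : Scheme.{u}) 1).obj (KS G 0)))
    (hk : ∃ e : ℕ, ∀ b ∈ 𝔞 ^ e, ∀ x : (HM A (V : Scheme.{u}) 1).obj (KS G 0), b • x = 0) :
    ∃ F : (V : Scheme.{u}).Modules, Coh.IsCoh F ∧ Nonempty (Formal.completion J F ≅ G) := by
  have hfin : Module.Finite A (limL A V G) := GrTower.Tower.finite_lim
    (P := fun n => (HM A (V : Scheme.{u}) 0).obj (G.obj (op n)))
    (K := fun n => (HM A (V : Scheme.{u}) 0).obj (KS G n))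
    (H := fun n => (HM A (V : Scheme.{u}) 1).obj (KS G n)) (tower hG a ha hg0 hg1) ha h0
  have hs := GrTower.Tower.exists_smul_lift
    (P := fun n => (HM A (V : Scheme.{u}) 0).obj (G.obj (op n)))
    (K := fun n => (HM A (V : Scheme.{u}) 0).obj (KS G n))
    (H := fun n => (HM A (V : Scheme.{u}) 1).obj (KS G n)) (tower hG a ha hg0 hg1) ha h1 𝔞 hk
  have hd := GrTower.Tower.exists_mem_smul
    (P := fun n => (HM A (V : Scheme.{u}) 0).obj (G.obj (op n)))
    (K := fun n => (HM A (V : Scheme.{u}) 0).obj (KS G n))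
    (H := fun n => (HM A (V : Scheme.{u}) 1).obj (KS G n)) (tower hG a ha hg0 hg1) ha h0
  refine algebraize_of_lim A V 𝔞 hV hVc G hG hqc hfin (fun n => ?_) hd
  obtain ⟨e, he⟩ := hs
  exact ⟨e, fun b hb y => he n b hb y⟩

end Groth.Agent.Sga2lef.H96.GrAlgebraize
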