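import Mathlib.RingTheory.Ideal.Quotient.Basic
import Mathlib.LinearAlgebra.Quotient.Pi
import Mathlib.LinearAlgebra.Dimension.Free
import Mathlib.RingTheory.Noetherian.Basic
import Mathlib.LinearAlgebra.FreeModule.Finite.Basic
import Mathlib.RingTheory.Finiteness.Quotient
import Mathlib.Algebra.Module.Torsion.Basic

/-!
# Lifts of bases of `J^n/J^(n+1)` and multiplication `(A/J)^b → A/J^(n+1)`
-/

set_option autoImplicit false
universe u

namespace Groth.Agent.Sga2lef.H96.GrKerAlg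

variable {A : Type u} [CommRing A] (J : Ideal A)

/-- `e` lifts a basis of `J^n/J^(n+1)` over `A/J`. -/
structure IsGrBasis (n : ℕ) {b : ℕ} (e : Fin b → A) : Prop where
  mem : ∀ i, e i ∈ J ^ n
  indep : ∀ c : Fin b → A, ∑ i, c i * e i ∈ J ^ (n + 1) → ∀ i, c i ∈ J
  span : ∀ x ∈ J ^ n, ∃ c : Fin b → A, x - ∑ i, c i * e i ∈ J ^ (n + 1)

theorem exists_isGrBasis [IsNoetherianRing A] (n : ℕ)
    (h : Module.Free (A ⧸ J) (↥(J ^ n) ⧸ (J • (⊤ : Submodule A ↥(J ^ n))))) :
    ∃ (b : ℕ) (e : Fin b → A), IsGrBasis J n e := by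
  classical
  let Q := ↥(J ^ n) ⧸ (J • (⊤ : Submodule A ↥(J ^ n)))
  have hf : Module.Finite A Q := inferInstance
  have hf' : Module.Finite (A ⧸ J) Q := Module.Finite.of_restrictScalars_finite A _ _
  rcases subsingleton_or_nontrivial (A ⧸ J) with hs | hs
  · have hJ : J = ⊤ := Ideal.Quotient.subsingleton_iff.1 hs
    subst hJ
    refine ⟨0, Fin.elim0, ⟨fun i => i.elim0, fun c _ i => i.elim0, fun x _ => ⟨Fin.elim0, ?_⟩⟩⟩
    rw [Ideal.top_pow]
    trivial
  let B := Module.Free.chooseBasis (A ⧸ J) Q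
  let B' := B.reindex (Fintype.equivFin (Module.Free.ChooseBasisIndex (A ⧸ J) Q))
  obtain ⟨b, B'⟩ : Σ b, Module.Basis (Fin b) (A ⧸ J) Q := ⟨_, B'⟩
  choose e he using fun i => Submodule.Quotient.mk_surjective _ (B' i)
  -- membership in `J^(n+1)`
  have hmem : ∀ x : ↥(J ^ n), x ∈ (J • (⊤ : Submodule A ↥(J ^ n))) ↔ (x : A) ∈ J ^ (n + 1) := by
    intro x
    have h1 : (J • (⊤ : Submodule A ↥(J ^ n))).map (J ^ n).subtype = J ^ (n + 1) := by
      rw [Submodule.map_smul'', Submodule.map_top, Submodule.range_subtype, pow_succ']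
      rfl
    constructor
    · intro hx
      rw [← h1]
      exact ⟨x, hx, rfl⟩
    · intro hx
      rw [← h1] at hx
      obtain ⟨y, hy, hyx⟩ := hx
      have : y = x := Subtype.ext hyx
      rwa [← this]
  have hsmul : ∀ (c : A) (q : Q), (Ideal.Quotient.mk J c) • q = c • q := fun c q => rfl
  have hsum : ∀ c : Fin b → A, (Submodule.Quotient.mk (∑ i, c i • e i) : Q) =
      ∑ i, (Ideal.Quotient.mk J (c i)) • B' i := by
    intro c
    have : (Submodule.Quotient.mk (∑ i, c i • e i) : Q) =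
        (J • (⊤ : Submodule A ↥(J ^ n))).mkQ (∑ i, c i • e i) := rfl
    rw [this, map_sum]
    refine Finset.sum_congr rfl fun i _ => ?_
    rw [map_smul, hsmul, ← he i]
    rfl
  have hcoe : ∀ c : Fin b → A, ((∑ i, c i • e i : ↥(J ^ n)) : A) = ∑ i, c i * (e i : A) := by
    intro c
    rw [AddSubmonoidClass.coe_finsetSum]
    rfl
  refine ⟨b, fun i => (e i : A), ⟨fun i => (e i).2, fun c hc => ?_, fun x hx => ?_⟩⟩
  · rw [← hcoe, ← hmem, ← Submodule.Quotient.mk_eq_zero, hsum] at hc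
    intro i
    have h2 := (Fintype.linearIndependent_iff.1 B'.linearIndependent) _ hc i
    exact Ideal.Quotient.eq_zero_iff_mem.1 h2
  · choose c hc using fun i => Ideal.Quotient.mk_surjective
      (B'.repr (Submodule.Quotient.mk (⟨x, hx⟩ : ↥(J ^ n))) i)
    refine ⟨c, ?_⟩
    have h3 : (⟨x, hx⟩ : ↥(J ^ n)) - ∑ i, c i • e i ∈ (J • (⊤ : Submodule A ↥(J ^ n))) := by
      rw [← Submodule.Quotient.mk_eq_zero, Submodule.Quotient.mk_sub, hsum, sub_eq_zero]
      conv_lhs => rw [← B'.sum_repr (Submodule.Quotient.mk (⟨x, hx⟩ : ↥(J ^ n)))]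
      exact Finset.sum_congr rfl fun i _ => by rw [hc]
    rw [hmem, AddSubgroupClass.coe_sub, hcoe] at h3
    exact h3

variable {J}

/-- Multiplication by `e` as a map `A/J → A/J'`. -/
def mulQ (J : Ideal A) {J' : Ideal A} {e : A} (he : ∀ a ∈ J, e * a ∈ J') : (A ⧸ J) →ₗ[A] (A ⧸ J') :=
  Submodule.mapQ J J' (LinearMap.mulLeft A e) (fun a ha => he a ha)

theorem mulQ_mk {J' : Ideal A} {e : A} (he : ∀ a ∈ J, e * a ∈ J') (a : A) :
    mulQ J he (Ideal.Quotient.mk J a) = Ideal.Quotient.mk J' (e * a) := rfl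

/-- Multiplication by `e` on `r`-tuples. -/
def mulR (J : Ideal A) {J' : Ideal A} {e : A} (he : ∀ a ∈ J, e * a ∈ J') (r : ℕ) :
    (Fin r → A ⧸ J) →ₗ[A] (Fin r → A ⧸ J') := (mulQ J he).compLeft (Fin r)

theorem mulR_apply {J' : Ideal A} {e : A} (he : ∀ a ∈ J, e * a ∈ J') (r : ℕ)
    (x : Fin r → A ⧸ J) (k : Fin r) : mulR J he r x k = mulQ J he (x k) := rfl

/-- The reduction `(A/J')^r → (A/J)^r`, `J' ≤ J`. -/
def redR {J' : Ideal A} (h : J' ≤ J) (r : ℕ) : (Fin r → A ⧸ J') →ₗ[A] (Fin r → A ⧸ J) :=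
  (Submodule.mapQ J' J LinearMap.id h).compLeft (Fin r)

theorem redR_apply {J' : Ideal A} (h : J' ≤ J) (r : ℕ) (x : Fin r → A ⧸ J') (k : Fin r) :
    redR h r x k = Submodule.mapQ J' J LinearMap.id h (x k) := rfl

theorem redR_surjective {J' : Ideal A} (h : J' ≤ J) (r : ℕ) : Function.Surjective (redR h r) := by
  intro y
  choose x hx using fun i => Ideal.Quotient.mk_surjective (y i)
  refine ⟨fun i => Ideal.Quotient.mk J' (x i), funext fun i => ?_⟩
  rw [← hx]
  rfl

theorem ker_redR {J' : Ideal A} (h : J' ≤ J) (r : ℕ) :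
    LinearMap.ker (redR h r) = J • (⊤ : Submodule A (Fin r → A ⧸ J')) := by
  classical
  apply le_antisymm
  · intro x hx
    choose y hy using fun i => Ideal.Quotient.mk_surjective (x i)
    have h1 : ∀ i, y i ∈ J := fun i => by
      have h2 : Ideal.Quotient.mk J (y i) = 0 := by
        have := congrFun (LinearMap.mem_ker.1 hx) i
        rw [redR_apply, ← hy i] at this
        exact this
      exact Ideal.Quotient.eq_zero_iff_mem.1 h2
    have h2 : x = ∑ i, y i • (Pi.single i (1 : A ⧸ J') : Fin r → A ⧸ J') := by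
      ext j
      rw [Finset.sum_apply, Finset.sum_eq_single j]
      · rw [Pi.smul_apply, Pi.single_eq_same, ← hy j]
        change _ = Ideal.Quotient.mk J' (y j * 1)
        rw [mul_one]
      · intro i _ hij
        rw [Pi.smul_apply, Pi.single_eq_of_ne (Ne.symm hij), smul_zero]
      · simp
    rw [h2]
    exact Submodule.sum_mem _ fun i _ => Submodule.smul_mem_smul (h1 i) trivial
  · rw [Submodule.smul_le]
    intro a ha x _
    rw [LinearMap.mem_ker]
    ext i
    rw [map_smul, Pi.smul_apply, Pi.zero_apply]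
    obtain ⟨y, hy⟩ := Ideal.Quotient.mk_surjective (redR h r x i)
    rw [← hy]
    change Ideal.Quotient.mk J (a * y) = 0
    rw [Ideal.Quotient.eq_zero_iff_mem]
    exact Ideal.mul_mem_right _ _ ha

theorem mulR_redR {J' : Ideal A} (h : J' ≤ J) {e : A} (he : ∀ a ∈ J, e * a ∈ J') (r : ℕ)
    (x : Fin r → A ⧸ J') : mulR J he r (redR h r x) = e • x := by
  ext i
  obtain ⟨y, hy⟩ := Ideal.Quotient.mk_surjective (x i)
  rw [mulR_apply, redR_apply, Pi.smul_apply, ← hy]
  rfl

theorem mul_mem_of_mem {n : ℕ} {e : A} (he : e ∈ J ^ n) : ∀ a ∈ J, e * a ∈ J ^ (n + 1) := by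
  intro a ha
  rw [pow_succ]
  exact Ideal.mul_mem_mul he ha

/-- The sum of the multiplications by the `e i`. -/
noncomputable def sumR {n b : ℕ} {e : Fin b → A} (he : IsGrBasis J n e) (r : ℕ) :
    (Fin b → (Fin r → A ⧸ J)) →ₗ[A] (Fin r → A ⧸ J ^ (n + 1)) :=
  ∑ i, (mulR J (mul_mem_of_mem (he.mem i)) r).comp (LinearMap.proj i)

theorem sumR_apply {n b : ℕ} {e : Fin b → A} (he : IsGrBasis J n e) (r : ℕ)
    (x : Fin b → (Fin r → A ⧸ J)) :
    sumR he r x = ∑ i, mulR J (mul_mem_of_mem (he.mem i)) r (x i) := by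
  simp [sumR]

theorem sumR_injective {n b : ℕ} {e : Fin b → A} (he : IsGrBasis J n e) (r : ℕ) :
    Function.Injective (sumR he r) := by
  rw [injective_iff_map_eq_zero]
  intro x hx
  choose y hy using fun i k => Ideal.Quotient.mk_surjective (x i k)
  have h1 : ∀ k, ∑ i, y i k * e i ∈ J ^ (n + 1) := by
    intro k
    have h2 := congrFun hx k
    rw [sumR_apply, Finset.sum_apply] at h2
    rw [← Ideal.Quotient.eq_zero_iff_mem, map_sum]
    refine Eq.trans (Finset.sum_congr rfl fun i _ => ?_) h2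
    rw [mulR_apply, ← hy i k, mulQ_mk, mul_comm]
  funext i k
  rw [← hy i k]
  exact Ideal.Quotient.eq_zero_iff_mem.2 (he.indep _ (h1 k) i)

end Groth.Agent.Sga2lef.H96.GrKerAlg
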