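import Groth.Agent.Sga2lef.H96.MuOp
import Groth.Agent.Sga2lef.H96.GrKerAlg
import Groth.Agent.FormalB.MonoMu
import Groth.Agent.FormalB.LocFreeTheta

/-!
# The kernels of a locally free formal system when `gr_J(A)` is free over `A/J`

`V ⊆ Spec A` open, `G` a formal system for `J` on `V` with `G_n` finite locally free over `O/J^(n+1)`. If `e_i ∈ J^n`
lift a basis of `J^n/J^(n+1)`, then multiplication by the `e_i` is an isomorphism
`G_0^b ≅ ker (G_n → G_(n-1))` (`isIso_phi`).
-/

set_option autoImplicit false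
universe u v w

open CategoryTheory CategoryTheory.Limits AlgebraicGeometry Opposite TopologicalSpace

namespace Groth.Agent.Sga2lef.H96.GrKer

open Groth.Agent.FormalB.ModPow Groth.Agent.FormalB.PuncTheta Groth.Agent.FormalB.MonoMu
open Groth.Agent.FormalB.LocFreeTheta Groth.Agent.FormalB.HMod
open Groth.Agent.Sga2lef.H96.MuOp Groth.Agent.Sga2lef.H96.GrKerAlg

/-! ### Epimorphism -/

section Epi

variable {A : Type u} [CommRing A] {X : Scheme.{u}} [X.Over (Spec (CommRingCat.of A))]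
  {J : Ideal A} {G : ℕᵒᵖ ⥤ X.Modules} (hG : IsFormal J G)

theorem kmu_congr (n : ℕ) {e e' : A} (h : e = e') (he : e ∈ J ^ n) (he' : e' ∈ J ^ n) :
    kmu hG n he = kmu hG n he' := by subst h; rfl

theorem kmu_eq_zero (n : ℕ) {e : A} (he : e ∈ J ^ (n + 1)) (he' : e ∈ J ^ n) :
    kmu hG n he' = 0 := by
  have key : ∀ e ∈ J ^ (n + 1), ∃ he' : e ∈ J ^ n, kmu hG n he' = 0 := by
    intro e he
    rw [pow_succ'] at he
    refine Submodule.mul_induction_on he (fun a ha b hb => ?_) (fun x y hx hy => ?_)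
    · refine ⟨Ideal.mul_mem_left _ a hb, ?_⟩
      rw [kmu_smul hG n a hb, killed_KS hG 0 a ha, zero_comp]
    · obtain ⟨hx, hx'⟩ := hx
      obtain ⟨hy, hy'⟩ := hy
      refine ⟨Ideal.add_mem _ hx hy, ?_⟩
      rw [kmu_add hG n hx hy, hx', hy', add_zero]
  obtain ⟨h, h'⟩ := key e he
  exact h'

theorem kmu_sum (n : ℕ) {b : ℕ} (c e : Fin b → A) (he : ∀ i, e i ∈ J ^ n)
    (hs : ∑ i, c i * e i ∈ J ^ n) :
    kmu hG n hs = ∑ i, Formal.smulMod A _ (c i) ≫ kmu hG n (he i) := by
  classical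
  have key : ∀ s : Finset (Fin b), ∃ h : ∑ i ∈ s, c i * e i ∈ J ^ n,
      kmu hG n h = ∑ i ∈ s, Formal.smulMod A _ (c i) ≫ kmu hG n (he i) := by
    intro s
    induction s using Finset.induction_on with
    | empty =>
      refine ⟨by simp, ?_⟩
      rw [kmu_congr hG n (by simp) _ (Ideal.zero_mem _), kmu_zero]
      simp
    | insert i s hi ih =>
      obtain ⟨h, h'⟩ := ih
      refine ⟨by
        rw [Finset.sum_insert hi]
        exact Ideal.add_mem _ (Ideal.mul_mem_left _ _ (he i)) h, ?_⟩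
      rw [kmu_congr hG n (Finset.sum_insert hi) _ (Ideal.add_mem _ (Ideal.mul_mem_left _ _ (he i)) h),
        kmu_add hG n (Ideal.mul_mem_left _ _ (he i)) h, h', kmu_smul hG n (c i) (he i),
        Finset.sum_insert hi]
  obtain ⟨h, h'⟩ := key Finset.univ
  exact h'

/-- `G_n ⟶ G_0`, with target `KS G 0`. -/
noncomputable def t0K (G : ℕᵒᵖ ⥤ X.Modules) (n : ℕ) : G.obj (op n) ⟶ KS G 0 :=
  trm G (Nat.zero_le n)

theorem t0K_ki (G : ℕᵒᵖ ⥤ X.Modules) (n : ℕ) : t0K G n ≫ ki G 0 = trm G (Nat.zero_le n) :=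
  Category.comp_id _

theorem t0K_kmu_ki (n : ℕ) {e : A} (he : e ∈ J ^ n) :
    t0K G n ≫ kmu hG n he ≫ ki G n = Formal.smulMod A _ e := by
  rw [kmu_ki, ← Category.assoc, t0K_ki, trm_mu]

include hG in
/-- The exact sequence `∐_{J^(n+1)} G_(n+1) → G_(n+1) → G_n → 0`. -/
theorem exact_smulFamily (n : ℕ) : ∃ w : Formal.smulFamily (J ^ (n + 1)) (G.obj (op (n + 1))) ≫
    trm G (Nat.le_succ n) = 0, (ShortComplex.mk _ _ w).Exact := by
  obtain ⟨w, hw⟩ := (isModPow_iff _).1 (hG.succ n)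
  refine ⟨w, ?_⟩
  apply ShortComplex.exact_of_g_is_cokernel
  exact IsColimit.ofIsoColimit (cokernelIsCokernel _) (Cofork.ext (asIso (cokernel.desc _ _ w))
    (cokernel.π_desc _ _ _))

/-- The family of multiplications `G_n ⟶ KS G n` by the elements of `J^n`. -/
noncomputable def famK (n : ℕ) : (∐ fun _ : (J ^ n : Ideal A) => G.obj (op n)) ⟶ KS G n :=
  Sigma.desc fun e => t0K G n ≫ kmu hG n e.2

theorem famK_ki (n : ℕ) : famK hG n ≫ ki G n = Formal.smulFamily (J ^ n) (G.obj (op n)) := by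
  apply Sigma.hom_ext
  intro e
  rw [ι_smulFamily, famK, Sigma.ι_desc_assoc, Category.assoc, t0K_kmu_ki]

theorem epi_famK_succ (n : ℕ) : Epi (famK hG (n + 1)) := by
  obtain ⟨w, hw⟩ := exact_smulFamily hG n
  have h1 := hw.epi_kernelLift
  have h2 : famK hG (n + 1) = kernel.lift _ _ w := by
    rw [← cancel_mono (ki G (n + 1)), famK_ki]
    exact (kernel.lift_ι _ _ _).symm
  rw [h2]
  exact h1

/-- A morphism out of the kernel vanishing on the multiples of elements of `J^n` is zero. -/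
theorem eq_zero_of_kmu (n : ℕ) {Z : X.Modules} (q : KS G n ⟶ Z)
    (h : ∀ e (he : e ∈ J ^ n), kmu hG n he ≫ q = 0) : q = 0 := by
  cases n with
  | zero =>
    have h1 := h 1 (by simp)
    have h2 : kmu hG 0 (e := (1 : A)) (by simp) = 𝟙 _ := by
      rw [← cancel_mono (ki G 0), kmu_ki, mu_self, smulMod_one, Category.comp_id, Category.id_comp]
    rwa [h2, Category.id_comp] at h1
  | succ n =>
    have h0 := epi_famK_succ hG n
    rw [← cancel_epi (famK hG (n + 1)), comp_zero]
    apply Sigma.hom_ext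
    intro e
    rw [famK, Sigma.ι_desc_assoc, Category.assoc, h e.1 e.2, comp_zero, comp_zero]

variable [HasFiniteBiproducts X.Modules]

/-- `G_0^b ⟶ ker (G_n → G_(n-1))`. -/
noncomputable def phi (n : ℕ) {b : ℕ} {e : Fin b → A} (he : ∀ i, e i ∈ J ^ n) :
    (⨁ fun _ : Fin b => KS G 0) ⟶ KS G n := biproduct.desc fun i => kmu hG n (he i)

theorem epi_phi (n : ℕ) {b : ℕ} {e : Fin b → A} (he : IsGrBasis J n e) :
    Epi (phi hG n he.mem) := by
  refine Preadditive.epi_of_cancel_zero _ fun {Z} q hq => ?_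
  have h1 : ∀ i, kmu hG n (he.mem i) ≫ q = 0 := by
    intro i
    rw [← biproduct.ι_desc (fun i => kmu hG n (he.mem i)) i, Category.assoc]
    change _ ≫ phi hG n he.mem ≫ q = 0
    rw [hq, comp_zero]
  refine eq_zero_of_kmu hG n q fun x hx => ?_
  obtain ⟨c, hc⟩ := he.span x hx
  have hs : ∑ i, c i * e i ∈ J ^ n := Ideal.sum_mem _ fun i _ => Ideal.mul_mem_left _ _ (he.mem i)
  have hc' : x - ∑ i, c i * e i ∈ J ^ n := Ideal.sub_mem _ hx hs
  rw [kmu_congr hG n (by ring : x = (x - ∑ i, c i * e i) + ∑ i, c i * e i) hx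
    (Ideal.add_mem _ hc' hs), kmu_add hG n hc' hs, kmu_eq_zero hG n hc, zero_add,
    kmu_sum hG n c e he.mem hs, Preadditive.sum_comp]
  refine Finset.sum_eq_zero fun i _ => ?_
  rw [Category.assoc, h1, comp_zero]

end Epi

/-! ### Monomorphism -/

section Mono

/-- The categorical core. -/
theorem mono_core {C : Type v} [Category.{w} C] [Abelian C] {b : ℕ} {E E' G0 G0' : C} (p : E ⟶ G0)
    [Epi p] (p' : E' ⟶ G0') (ε : E ≅ E') (μ : Fin b → (G0 ⟶ E)) (μ' : Fin b → (G0' ⟶ E'))
    (f : Fin b → (E ⟶ E)) (f' : Fin b → (E' ⟶ E')) (hf : ∀ i, p ≫ μ i = f i)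
    (hf' : ∀ i, p' ≫ μ' i = f' i) (hc : ∀ i, f i ≫ ε.hom = ε.hom ≫ f' i)
    (hM : ∀ {K : C} (x : Fin b → (K ⟶ G0')), ∑ i, x i ≫ μ' i = 0 → ∀ i, x i = 0)
    (hK : ∃ ψ : G0' ⟶ G0, ε.hom ≫ p' ≫ ψ = p) {K : C} (x : Fin b → (K ⟶ G0))
    (hx : ∑ i, x i ≫ μ i = 0) (i : Fin b) : x i = 0 := by
  have hfb : HasFiniteBiproducts C := Abelian.hasFiniteBiproducts
  obtain ⟨ψ, hψ⟩ := hK
  obtain ⟨K', π, hπ, t, ht⟩ := surjective_up_to_refinements_of_epi
    (biproduct.map fun _ : Fin b => p) (biproduct.lift x)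
  have ht' : ∀ i, π ≫ x i = (t ≫ biproduct.π _ i) ≫ p := by
    intro i
    rw [← biproduct.lift_π x i, ← Category.assoc, ht, Category.assoc, biproduct.map_π,
      Category.assoc]
  have h1 : ∑ i, (t ≫ biproduct.π (fun _ : Fin b => E) i ≫ ε.hom ≫ p') ≫ μ' i = 0 := by
    have h2 : ∀ i, (t ≫ biproduct.π (fun _ : Fin b => E) i ≫ ε.hom ≫ p') ≫ μ' i =
        (π ≫ x i ≫ μ i) ≫ ε.hom := by
      intro i
      have h3 : π ≫ x i ≫ μ i = (t ≫ biproduct.π (fun _ : Fin b => E) i) ≫ f i := by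
        rw [← Category.assoc, ht', Category.assoc, hf]
      rw [h3]
      simp only [Category.assoc]
      rw [hf', hc]
    simp only [h2]
    rw [← Preadditive.sum_comp, ← Preadditive.comp_sum, hx, comp_zero, zero_comp]
  have h4 := hM _ h1 i
  rw [← cancel_epi π, comp_zero, ht', ← hψ]
  have h5 : (t ≫ biproduct.π (fun _ : Fin b => E) i) ≫ ε.hom ≫ p' ≫ ψ =
      (t ≫ biproduct.π (fun _ : Fin b => E) i ≫ ε.hom ≫ p') ≫ ψ := by
    simp only [Category.assoc]
  rw [h5, h4, zero_comp]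

variable {A : Type u} [CommRing A]

/-- Maps out of the restriction of a quotient. -/
theorem exists_desc_restrict {X : Scheme.{u}} [X.Over (Spec (CommRingCat.of A))] {J : Ideal A}
    {M N : X.Modules} {q : M ⟶ N} (hq : IsModPow J q) (W : X.Opens) {Z : (W : Scheme.{u}).Modules}
    (φ : (Scheme.Modules.restrictFunctor W.ι).obj M ⟶ Z)
    (hφ : ∀ a ∈ J, (Scheme.Modules.restrictFunctor W.ι).map (Formal.smulMod A M a) ≫ φ = 0) :
    ∃ ψ : (Scheme.Modules.restrictFunctor W.ι).obj N ⟶ Z,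
      (Scheme.Modules.restrictFunctor W.ι).map q ≫ ψ = φ := by
  let adj := Scheme.Modules.restrictAdjunction W.ι
  have h0 : adj.homEquiv M Z 0 = 0 := by
    rw [Adjunction.homEquiv_unit, Functor.map_zero, comp_zero]
  obtain ⟨χ, hχ⟩ := hq.desc (adj.homEquiv _ _ φ) (fun a ha => by
    rw [← adj.homEquiv_naturality_left, hφ a ha, h0])
  exact ⟨(adj.homEquiv _ _).symm χ, by
    rw [← adj.homEquiv_naturality_left_symm, hχ, Equiv.symm_apply_apply]⟩

variable (U : (Spec (CommRingCat.of A)).Opens) (W : (U : Scheme.{u}).Opens)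

/-- `M ↦ (M~|_U)|_W`. -/
noncomputable abbrev HH (M : Type u) [AddCommGroup M] [Module A M] : (W : Scheme.{u}).Modules :=
  (Scheme.Modules.restrictFunctor W.ι).obj ((Theta U).obj (ModuleCat.of A M))

/-- functoriality. -/
noncomputable abbrev HHm {M N : Type u} [AddCommGroup M] [Module A M] [AddCommGroup N] [Module A N]
    (f : M →ₗ[A] N) : HH U W M ⟶ HH U W N :=
  (Scheme.Modules.restrictFunctor W.ι).map (thetaMap U f)

theorem HHm_comp {M N P : Type u} [AddCommGroup M] [Module A M] [AddCommGroup N] [Module A N]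
    [AddCommGroup P] [Module A P] (f : M →ₗ[A] N) (g : N →ₗ[A] P) :
    HHm U W f ≫ HHm U W g = HHm U W (g.comp f) := by
  rw [← Functor.map_comp, ← Functor.map_comp]
  rfl

theorem HHm_id {M : Type u} [AddCommGroup M] [Module A M] :
    HHm U W (LinearMap.id : M →ₗ[A] M) = 𝟙 _ := by
  have h : thetaMap U (LinearMap.id : M →ₗ[A] M) = 𝟙 _ := (Theta U).map_id _
  rw [HHm, h]
  exact CategoryTheory.Functor.map_id _ _

theorem HHm_zero {M N : Type u} [AddCommGroup M] [Module A M] [AddCommGroup N] [Module A N] :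
    HHm U W (0 : M →ₗ[A] N) = 0 := by
  have h : thetaMap U (0 : M →ₗ[A] N) = 0 := (Theta U).map_zero _ _
  rw [HHm, h]
  exact Functor.map_zero _ _ _

theorem mono_HHm {M N : Type u} [AddCommGroup M] [Module A M] [AddCommGroup N] [Module A N]
    (f : M →ₗ[A] N) (hf : Function.Injective f) : Mono (HHm U W f) := by
  have h : Mono (ModuleCat.ofHom f) := (ModuleCat.mono_iff_injective _).2 hf
  infer_instance

variable {J : Ideal A}

/-- Independence of the multiplications by the `e i`. -/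
theorem indep_HH {n b : ℕ} {e : Fin b → A} (he : IsGrBasis J n e) (r : ℕ) {K : (W : Scheme.{u}).Modules}
    (x : Fin b → (K ⟶ HH U W (Fin r → A ⧸ J)))
    (hx : ∑ i, x i ≫ HHm U W (mulR J (mul_mem_of_mem (he.mem i)) r) = 0) (i : Fin b) : x i = 0 := by
  classical
  have hm := mono_HHm U W (sumR he r) (sumR_injective he r)
  have h1 : (∑ i, x i ≫ HHm U W (LinearMap.single A (fun _ : Fin b => (Fin r → A ⧸ J)) i)) = 0 := by
    rw [← cancel_mono (HHm U W (sumR he r)), zero_comp, Preadditive.sum_comp, ← hx]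
    refine Finset.sum_congr rfl fun i _ => ?_
    rw [Category.assoc, HHm_comp]
    congr 2
    refine LinearMap.ext fun y => ?_
    rw [LinearMap.comp_apply, sumR_apply, Finset.sum_eq_single i]
    · rw [LinearMap.single_apply, Pi.single_eq_same]
    · intro j _ hj
      rw [LinearMap.single_apply, Pi.single_eq_of_ne hj, map_zero]
    · exact fun h => absurd (Finset.mem_univ _) h
  have h2 : x i = (∑ i, x i ≫ HHm U W (LinearMap.single A (fun _ : Fin b => (Fin r → A ⧸ J)) i)) ≫
      HHm U W (LinearMap.proj i) := by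
    rw [Preadditive.sum_comp, Finset.sum_eq_single i]
    · rw [Category.assoc, HHm_comp]
      have h3 : (LinearMap.proj i : (Fin b → (Fin r → A ⧸ J)) →ₗ[A] _).comp
          (LinearMap.single A (fun _ : Fin b => (Fin r → A ⧸ J)) i) = LinearMap.id := by
        refine LinearMap.ext fun y => ?_
        change (Pi.single i y : Fin b → (Fin r → A ⧸ J)) i = y
        rw [Pi.single_eq_same]
      rw [h3, HHm_id, Category.comp_id]
    · intro j _ hj
      rw [Category.assoc, HHm_comp]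
      have h3 : (LinearMap.proj i : (Fin b → (Fin r → A ⧸ J)) →ₗ[A] _).comp
          (LinearMap.single A (fun _ : Fin b => (Fin r → A ⧸ J)) j) = 0 := by
        refine LinearMap.ext fun y => ?_
        change (Pi.single j y : Fin b → (Fin r → A ⧸ J)) i = 0
        rw [Pi.single_eq_of_ne (Ne.symm hj)]
      rw [h3, HHm_zero, comp_zero]
    · exact fun h => absurd (Finset.mem_univ _) h
  rw [h2, h1, zero_comp]

/-- Locally, `G_n` is a free module over `O/J^(n+1)` coming from `A`-modules. -/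
theorem exists_local {G : ℕᵒᵖ ⥤ (U : Scheme.{u}).Modules} (n : ℕ)
    (hfree : Formal2.IsFinLocFreeMod J (n + 1) (G.obj (op n))) (x : U) :
    ∃ (W : (U : Scheme.{u}).Opens) (r : ℕ), x ∈ W ∧
      Nonempty ((Scheme.Modules.restrictFunctor W.ι).obj (G.obj (op n)) ≅
        HH U W (Fin r → A ⧸ J ^ (n + 1))) := by
  obtain ⟨W, r, hx, ⟨e⟩⟩ := hfree x
  obtain ⟨e'⟩ := exists_modPow_iso U J (n + 1) r
  exact ⟨W, r, hx, ⟨e ≪≫ (Scheme.Modules.restrictFunctor W.ι).mapIso e'⟩⟩

theorem restrict_comm_HH {M : (U : Scheme.{u}).Modules} {N : Type u} [AddCommGroup N] [Module A N]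
    (a : A) (φ : (Scheme.Modules.restrictFunctor W.ι).obj M ⟶ HH U W N) :
    (Scheme.Modules.restrictFunctor W.ι).map (Formal.smulMod A M a) ≫ φ =
      φ ≫ HHm U W (a • (LinearMap.id : N →ₗ[A] N)) := by
  rw [HHm, thetaMap, theta_map_smul]
  exact restrict_smulMod_comm W a φ

theorem restrict_comm_HH' {M : (U : Scheme.{u}).Modules} {N : Type u} [AddCommGroup N] [Module A N]
    (a : A) (φ : HH U W N ⟶ (Scheme.Modules.restrictFunctor W.ι).obj M) :
    HHm U W (a • (LinearMap.id : N →ₗ[A] N)) ≫ φ =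
      φ ≫ (Scheme.Modules.restrictFunctor W.ι).map (Formal.smulMod A M a) := by
  rw [HHm, thetaMap, theta_map_smul]
  exact restrict_smulMod_comm W a φ

/-- **Local independence.** -/
theorem indep_restrict {G : ℕᵒᵖ ⥤ (U : Scheme.{u}).Modules} (hG : IsFormal J G) {n b : ℕ}
    {e : Fin b → A} (he : IsGrBasis J n e) (r : ℕ)
    (ε : (Scheme.Modules.restrictFunctor W.ι).obj (G.obj (op n)) ≅ HH U W (Fin r → A ⧸ J ^ (n + 1)))
    {K : (W : Scheme.{u}).Modules}
    (x : Fin b → (K ⟶ (Scheme.Modules.restrictFunctor W.ι).obj (G.obj (op 0))))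
    (hx : ∑ i, x i ≫ (Scheme.Modules.restrictFunctor W.ι).map
      (mu hG (Nat.zero_le n) (mulInto_zero (he.mem i))) = 0) (i : Fin b) : x i = 0 := by
  have h0 : Epi (trm G (Nat.zero_le n)) := epi_trm hG _
  have hle : J ^ (n + 1) ≤ J := Ideal.pow_le_self (Nat.succ_ne_zero n)
  refine mono_core (p := (Scheme.Modules.restrictFunctor W.ι).map (trm G (Nat.zero_le n)))
    (p' := HHm U W (redR hle r)) ε
    (fun i => (Scheme.Modules.restrictFunctor W.ι).map
      (mu hG (Nat.zero_le n) (mulInto_zero (he.mem i))))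
    (fun i => HHm U W (mulR J (mul_mem_of_mem (he.mem i)) r))
    (fun i => (Scheme.Modules.restrictFunctor W.ι).map (Formal.smulMod A _ (e i)))
    (fun i => HHm U W (e i • LinearMap.id)) (fun i => ?_) (fun i => ?_) (fun i => ?_)
    (indep_HH U W he r) ?_ x hx i
  · rw [← Functor.map_comp, trm_mu]
  · rw [HHm_comp]
    congr 1
    refine LinearMap.ext fun y => ?_
    exact mulR_redR hle (mul_mem_of_mem (he.mem i)) r y
  · exact restrict_comm_HH U W (e i) ε.hom
  · obtain ⟨ψ, hψ⟩ := exists_desc_restrict (isModPow_thetaMap U J (redR hle r)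
      (redR_surjective hle r) (ker_redR hle r)) W
      (ε.inv ≫ (Scheme.Modules.restrictFunctor W.ι).map (trm G (Nat.zero_le n))) (fun a ha => by
        have h1 := restrict_smulMod_comm W a ε.inv
        rw [← Category.assoc, h1, Category.assoc, ← Functor.map_comp,
          smulMod_naturality]
        have h2 : Formal.smulMod A (G.obj (op 0)) a = 0 :=
          hG.killed 0 a (by rw [zero_add, pow_one]; exact ha)
        rw [h2, comp_zero, Functor.map_zero, comp_zero])
    refine ⟨ψ, ?_⟩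
    have h3 : HHm U W (redR hle r) ≫ ψ =
      ε.inv ≫ (Scheme.Modules.restrictFunctor W.ι).map (trm G (Nat.zero_le n)) := hψ
    rw [h3, Iso.hom_inv_id_assoc]

/-- **The map `G_0^b ⟶ ker (G_n → G_(n-1))` is a monomorphism.** -/
theorem mono_phi [HasFiniteBiproducts (U : Scheme.{u}).Modules]
    {G : ℕᵒᵖ ⥤ (U : Scheme.{u}).Modules} (hG : IsFormal J G) {n b : ℕ}
    {e : Fin b → A} (he : IsGrBasis J n e)
    (hfree : Formal2.IsFinLocFreeMod J (n + 1) (G.obj (op n))) : Mono (phi hG n he.mem) := by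
  refine mono_of_restrict _ fun y => ?_
  obtain ⟨W, r, hy, ⟨ε⟩⟩ := exists_local U n hfree y
  refine ⟨W, hy, ?_⟩
  let R := Scheme.Modules.restrictFunctor W.ι
  refine Preadditive.mono_of_cancel_zero _ fun {K} k hk => ?_
  have h1 : ∑ i, (k ≫ R.map (biproduct.π (fun _ : Fin b => KS G 0) i)) ≫
      R.map (mu hG (Nat.zero_le n) (mulInto_zero (he.mem i))) = 0 := by
    have h2 : ∀ i, R.map (biproduct.π (fun _ : Fin b => KS G 0) i) ≫
        R.map (mu hG (Nat.zero_le n) (mulInto_zero (he.mem i))) =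
        R.map (biproduct.π (fun _ : Fin b => KS G 0) i ≫ biproduct.ι (fun _ : Fin b => KS G 0) i) ≫
          R.map (phi hG n he.mem) ≫ R.map (ki G n) := by
      intro i
      rw [← Functor.map_comp, ← Functor.map_comp, ← Functor.map_comp]
      congr 1
      rw [Category.assoc]
      congr 1
      rw [phi, ← Category.assoc, biproduct.ι_desc, kmu_ki]
      exact (Category.id_comp _).symm
    simp only [Category.assoc, h2]
    rw [← Preadditive.comp_sum, ← Preadditive.sum_comp, ← Functor.map_sum, biproduct.total,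
      CategoryTheory.Functor.map_id, Category.id_comp, ← Category.assoc, hk, zero_comp]
  have h3 := fun i => indep_restrict U W hG he r ε
    (fun i => k ≫ R.map (biproduct.π (fun _ : Fin b => KS G 0) i)) h1 i
  have h4 : k = ∑ i, (k ≫ R.map (biproduct.π (fun _ : Fin b => KS G 0) i)) ≫
      R.map (biproduct.ι (fun _ : Fin b => KS G 0) i) := by
    simp only [Category.assoc, ← Functor.map_comp]
    rw [← Preadditive.comp_sum, ← Functor.map_sum, biproduct.total,
      CategoryTheory.Functor.map_id, Category.comp_id]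
  rw [h4]
  refine Finset.sum_eq_zero fun i _ => ?_
  have h5 : k ≫ R.map (biproduct.π (fun _ : Fin b => KS G 0) i) = 0 := h3 i
  rw [h5, zero_comp]

/-- **`G_0^b ≅ ker (G_n → G_(n-1))`.** -/
theorem isIso_phi [HasFiniteBiproducts (U : Scheme.{u}).Modules]
    {G : ℕᵒᵖ ⥤ (U : Scheme.{u}).Modules} (hG : IsFormal J G) {n b : ℕ}
    {e : Fin b → A} (he : IsGrBasis J n e)
    (hfree : Formal2.IsFinLocFreeMod J (n + 1) (G.obj (op n))) : IsIso (phi hG n he.mem) := by
  have h1 := mono_phi U hG he hfree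
  have h2 := epi_phi hG n he
  exact isIso_of_mono_of_epi _

end Mono

end Groth.Agent.Sga2lef.H96.GrKer
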