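import Groth.Statements.S3374
import Groth.Agent.Sga2lef.H96.GrGen
import Groth.Agent.Sga2lef.H96.LevelFree
import Groth.Agent.Sga2lef.H100.GrPunct
import Groth.Agent.PerfA.CohSerre

set_option autoImplicit false
universe u
open CategoryTheory CategoryTheory.Limits AlgebraicGeometry
open LefX

namespace Groth.Agent.Sga2lef.H96.Main3374

/-- Let A be a Noetherian local ring, J a proper ideal such that (i) A/J has depth ≥ 3, (ii) every
J^n/J^(n+1) is a free A/J-module (gr_J(A) is free over A/J), (iii) A is separated and complete for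
the J-adic topology. Let U be the punctured spectrum of A, U_0 = U ∩ V(J) and Û the completion of U
along U_0. Then (a) for every finite locally free O_U-module D the map Hom(D, O_U) → lim_n Hom(D,
O_U/J^(n+1)O_U) is bijective (the completion functor is fully faithful on finite locally free
modules), and (b) every levelwise finite locally free system of coherent modules on Û is isomorphic
to the completion of a coherent (not necessarily locally free) O_U-module. -/
theorem main (A : Type u) [CommRing A] [IsLocalRing A] [IsNoetherianRing A] (J : Ideal A) (hJ : J ≠ ⊤) [IsLocalRing (A ⧸ J)] (hd : (3 : ℕ∞) ≤ LocCoh.depth (A ⧸ J) (A ⧸ J)) (hgr : ∀ n : ℕ, Module.Free (A ⧸ J) (↥(J ^ n) ⧸ (J • (⊤ : Submodule A ↥(J ^ n))))) [IsAdicComplete J A] : (∀ D : (↑(FEt.puncturedSpec A) : Scheme.{u}).Modules, FlatMod.IsFinLocFree D → Lef.HomToFormalBijective ((Spec.map (CommRingCat.ofHom (Ideal.Quotient.mk J))).ker.comap (FEt.puncturedSpec A).ι) D) ∧ (∀ 𝔐 : FSch.ModSys (FSch.completionAlong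 (↑(FEt.puncturedSpec A) : Scheme.{u}) ((Spec.map (CommRingCat.ofHom (Ideal.Quotient.mk J))).ker.comap (FEt.puncturedSpec A).ι)), LefX.LevelwiseFinLocFree 𝔐 → ∃ F : (↑(FEt.puncturedSpec A) : Scheme.{u}).Modules, Coh.IsCoh F ∧ Nonempty (FSch.completionMod ((Spec.map (CommRingCat.ofHom (Ideal.Quotient.mk J))).ker.comap (FEt.puncturedSpec A).ι) F ≅ 𝔐)) := by
  refine ⟨fun D hD => Groth.Agent.Sga2lef.H100.GrPunct.homToFormalBijective A hJ hd hgr D
    (Groth.Agent.Ega2.QCohLocal.isQCoh_of_isFinLocFree hD), fun 𝔐 h𝔐 => ?_⟩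
  have h : Groth.Agent.Sga2lef.H96.ModSysFormal.IsGenBy J
    ((Spec.map (CommRingCat.ofHom (Ideal.Quotient.mk J))).ker.comap (FEt.puncturedSpec A).ι) :=
    Groth.Agent.Sga2lef.H96.ModSysFormal.isGenBy_comap J
  have hU : FEt.puncturedSpec A = LocCoh.puncturedOpen A (IsLocalRing.maximalIdeal A) := by
    apply TopologicalSpace.Opens.ext
    change ({IsLocalRing.closedPoint A}ᶜ : Set (PrimeSpectrum A)) =
      (PrimeSpectrum.zeroLocus (R := A) (IsLocalRing.maximalIdeal A : Set A))ᶜ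
    rw [Groth.Agent.FormalB.H01.zeroLocus_maximalIdeal]
  obtain ⟨F, hF, hiso⟩ := Groth.Agent.Sga2lef.H96.GrGen.algebraize A J hd hgr
    (FEt.puncturedSpec A) hU (Groth.Agent.Sga2lef.H96.ModSysPush.toSys 𝔐)
    (Groth.Agent.Sga2lef.H96.ModSysFormal.isFormal_toSys h 𝔐)
    (fun n => Groth.Agent.Sga2lef.H96.ModSysFormal.isCoh_pm 𝔐 n
      (Groth.Agent.PerfA.CohSerre.isCoh_of_isFinLocFree (h𝔐 n)))
    (Groth.Agent.Sga2lef.H96.LevelFree.isFinLocFreeMod_toSys h 𝔐 h𝔐)
  exact ⟨F, hF, Groth.Agent.Sga2lef.H96.ModSysFormal.nonempty_iso h 𝔐 F hF.1 hiso⟩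

end Groth.Agent.Sga2lef.H96.Main3374
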