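import Groth.Agent.FormalB.TrKQuot

/-!
# Transposition along a composite `τ ≫ g = h` of morphisms of schemes

`tr`: for `a : τ^* F' ⟶ F` the induced map `g_* F' ⟶ h_* F`, and its compatibility with the
isomorphism `τ^* g^* ≅ h^*`.
-/

set_option autoImplicit false
universe u

open CategoryTheory AlgebraicGeometry Opposite

namespace Groth.Agent.Sga2lef.H96.Transp

open AlgebraicGeometry.Scheme.Modules

variable {X Y Z : Scheme.{u}}

/-- The canonical isomorphism `g_* τ_* ≅ h_*` for `τ ≫ g = h`. -/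
noncomputable def pp (τ : Z ⟶ Y) (g : Y ⟶ X) (h : Z ⟶ X) (w : τ ≫ g = h) (N : Z.Modules) :
    (pushforward g).obj ((pushforward τ).obj N) ≅ (pushforward h).obj N :=
  (pushforwardComp τ g).app N ≪≫ (pushforwardCongr w).app N

/-- The canonical isomorphism `τ^* g^* ≅ h^*` for `τ ≫ g = h`. -/
noncomputable def qq (τ : Z ⟶ Y) (g : Y ⟶ X) (h : Z ⟶ X) (w : τ ≫ g = h) (M : X.Modules) :
    (pullback τ).obj ((pullback g).obj M) ≅ (pullback h).obj M :=
  (pullbackComp τ g).app M ≪≫ (pullbackCongr w).app M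

theorem pushforwardCongr_rfl {f : X ⟶ Y} (N : X.Modules) :
    (pushforwardCongr (rfl : f = f)).hom.app N = 𝟙 _ := by
  ext U m
  have h1 : ((pushforwardCongr (rfl : f = f)).hom.app N).app U = N.presheaf.map (𝟙 _) := rfl
  rw [h1, N.presheaf.map_id]
  rfl

@[reassoc]
theorem pp_naturality (τ : Z ⟶ Y) (g : Y ⟶ X) (h : Z ⟶ X) (w : τ ≫ g = h) {N N' : Z.Modules}
    (φ : N ⟶ N') : (pushforward g).map ((pushforward τ).map φ) ≫ (pp τ g h w N').hom =
      (pp τ g h w N).hom ≫ (pushforward h).map φ := by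
  subst w
  simp only [pp, Iso.trans_hom, Iso.app_hom, pushforwardCongr_rfl, Category.comp_id]
  exact (pushforwardComp τ g).hom.naturality φ

theorem homEquiv_qq (τ : Z ⟶ Y) (g : Y ⟶ X) (h : Z ⟶ X) (w : τ ≫ g = h) (M : X.Modules)
    (N : Z.Modules) (b : (pullback h).obj M ⟶ N) :
    ((pullbackPushforwardAdjunction g).homEquiv _ _)
      (((pullbackPushforwardAdjunction τ).homEquiv _ _) ((qq τ g h w M).hom ≫ b)) ≫
        (pp τ g h w N).hom = ((pullbackPushforwardAdjunction h).homEquiv _ _) b := by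
  subst w
  have e1 : (qq τ g (τ ≫ g) rfl M).hom = (pullbackComp τ g).hom.app M := by
    simp only [qq, Iso.trans_hom, Iso.app_hom]
    exact Category.comp_id _
  have e2 : (pp τ g (τ ≫ g) rfl N).hom = (pushforwardComp τ g).hom.app N := by
    simp only [pp, Iso.trans_hom, Iso.app_hom, pushforwardCongr_rfl, Category.comp_id]
  rw [e1, e2]
  obtain ⟨a, rfl⟩ : ∃ a, b = (pullbackComp τ g).inv.app M ≫ a :=
    ⟨(pullbackComp τ g).hom.app M ≫ b, by
      rw [← Category.assoc, Iso.inv_hom_id_app]
      exact (Category.id_comp _).symm⟩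
  rw [← Category.assoc ((pullbackComp τ g).hom.app M), Iso.hom_inv_id_app, Category.id_comp]
  have h1 := unit_conjugateEquiv ((pullbackPushforwardAdjunction g).comp
    (pullbackPushforwardAdjunction τ)) (pullbackPushforwardAdjunction (τ ≫ g))
    (pullbackComp τ g).inv M
  rw [conjugateEquiv_pullbackComp_inv] at h1
  have h2 : ∀ {N' : Z.Modules} (c : (pullback g ⋙ pullback τ).obj M ⟶ N'),
      ((pullbackPushforwardAdjunction g).homEquiv _ _)
      (((pullbackPushforwardAdjunction τ).homEquiv _ _) c) =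
      ((pullbackPushforwardAdjunction g).comp (pullbackPushforwardAdjunction τ)).unit.app M ≫
        (pushforward τ ⋙ pushforward g).map c := by
    intro N' c
    rw [Adjunction.homEquiv_unit, Adjunction.homEquiv_unit, Adjunction.comp_unit_app,
      Functor.map_comp, Functor.comp_map, Category.assoc]
  rw [h2, Adjunction.homEquiv_unit, Category.assoc]
  have h3 := (pushforwardComp τ g).hom.naturality a
  rw [h3, ← Category.assoc]
  refine (congrArg (fun t => t ≫ (pushforward (τ ≫ g)).map a) h1).trans ?_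
  rw [Functor.map_comp, Category.assoc]

/-- The map `g_* F' ⟶ h_* F` induced by `a : τ^* F' ⟶ F`. -/
noncomputable def tr (τ : Z ⟶ Y) (g : Y ⟶ X) (h : Z ⟶ X) (w : τ ≫ g = h) {F' : Y.Modules}
    {F : Z.Modules} (a : (pullback τ).obj F' ⟶ F) :
    (pushforward g).obj F' ⟶ (pushforward h).obj F :=
  (pushforward g).map (((pullbackPushforwardAdjunction τ).homEquiv _ _) a) ≫ (pp τ g h w F).hom

theorem tr_comp (τ : Z ⟶ Y) (g : Y ⟶ X) (h : Z ⟶ X) (w : τ ≫ g = h) {F' : Y.Modules}
    {F F₁ : Z.Modules} (a : (pullback τ).obj F' ⟶ F) (b : F ⟶ F₁) :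
    tr τ g h w (a ≫ b) = tr τ g h w a ≫ (pushforward h).map b := by
  rw [tr, tr, Adjunction.homEquiv_naturality_right, Functor.map_comp, Category.assoc,
    pp_naturality, Category.assoc]

/-- Compatibility of `tr` with maps from a module on `X`. -/
theorem homEquiv_tr (τ : Z ⟶ Y) (g : Y ⟶ X) (h : Z ⟶ X) (w : τ ≫ g = h) {M : X.Modules}
    {F' : Y.Modules} {F : Z.Modules} (a : (pullback τ).obj F' ⟶ F)
    (q' : (pullback g).obj M ⟶ F') (q : (pullback h).obj M ⟶ F) :
    ((pullbackPushforwardAdjunction g).homEquiv _ _) q' ≫ tr τ g h w a =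
        ((pullbackPushforwardAdjunction h).homEquiv _ _) q ↔
      (pullback τ).map q' ≫ a = (qq τ g h w M).hom ≫ q := by
  rw [← homEquiv_qq τ g h w, tr, ← Category.assoc, ← Adjunction.homEquiv_naturality_right]
  constructor
  · intro H
    have H1 := (cancel_mono (pp τ g h w F).hom).1 H
    have H2 := ((pullbackPushforwardAdjunction g).homEquiv _ _).injective H1
    rw [← Adjunction.homEquiv_naturality_left] at H2
    exact ((pullbackPushforwardAdjunction τ).homEquiv _ _).injective H2
  · intro H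
    rw [← Adjunction.homEquiv_naturality_left, H]

end Groth.Agent.Sga2lef.H96.Transp
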