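import Groth.Prelude.Def_FSch2
import Groth.Agent.Sga2lef.H96.Transp

/-!
# Systems of modules on the completion of `X` along `V(𝓘)` as inverse systems of `O_X`-modules

For `𝔐 : FSch.ModSys (FSch.completionAlong X 𝓘)`:
* `pm 𝔐 n = (i_n)_* 𝔐_n`, `i_n : V(𝓘^(n+1)) ⟶ X`, and `ptr 𝔐 n : pm 𝔐 (n+1) ⟶ pm 𝔐 n`;
* `isKQuot_ptr`: `ptr 𝔐 n` is the quotient by `𝓘^(n+1)`;
* `nonempty_iso_of_isKQuot`: compatible maps `F ⟶ pm 𝔐 n` which are quotients by `𝓘^(n+1)` give an isomorphism
  of `𝔐` with the completion of `F`;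
* `toSys 𝔐 : ℕᵒᵖ ⥤ X.Modules` the inverse system.
-/

set_option autoImplicit false
universe u

open CategoryTheory AlgebraicGeometry Opposite

namespace Groth.Agent.Sga2lef.H96.ModSysPush

open AlgebraicGeometry.Scheme.Modules FSch
open Groth.Agent.FormalB.KQuot Groth.Agent.FormalB.TrKQuot Groth.Agent.Sga2lef.H96.Transp

section Closed

variable {X : Scheme.{u}} (K : X.IdealSheafData)

/-- `i_*` is fully faithful for `i : V(K) ⟶ X`. -/
theorem exists_map_eq {N N' : K.subscheme.Modules}
    (φ : (pushforward K.subschemeι).obj N ⟶ (pushforward K.subschemeι).obj N') :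
    ∃ ψ : N ⟶ N', (pushforward K.subschemeι).map ψ = φ := by
  let adj := pullbackPushforwardAdjunction K.subschemeι
  have h1 : IsIso (adj.counit.app N) := isIso_counit K N
  have h2 : IsIso (adj.counit.app N') := isIso_counit K N'
  refine ⟨inv (adj.counit.app N) ≫ (pullback K.subschemeι).map φ ≫ adj.counit.app N', ?_⟩
  have h3 := isIso_kπ K (killed_pushforward K N)
  have hu : IsIso (adj.unit.app ((pushforward K.subschemeι).obj N)) := h3
  have t1 := adj.right_triangle_components N
  have t2 := adj.right_triangle_components N'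
  have e1 : (pushforward K.subschemeι).map (inv (adj.counit.app N)) =
      adj.unit.app ((pushforward K.subschemeι).obj N) := by
    rw [Functor.map_inv, IsIso.inv_eq_of_inv_hom_id t1]
  rw [Functor.map_comp, Functor.map_comp, e1]
  have n1 := adj.unit.naturality φ
  have n2 : adj.unit.app ((pushforward K.subschemeι).obj N) ≫
      (pushforward K.subschemeι).map ((pullback K.subschemeι).map φ) =
      φ ≫ adj.unit.app ((pushforward K.subschemeι).obj N') := n1.symm
  rw [← Category.assoc, n2, Category.assoc, t2, Category.comp_id]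

theorem map_injective {N N' : K.subscheme.Modules} {f g : N ⟶ N'}
    (h : (pushforward K.subschemeι).map f = (pushforward K.subschemeι).map g) : f = g :=
  (faithful_pushforward K.subschemeι).map_injective h

/-- `i_*` reflects isomorphisms. -/
theorem isIso_of_isIso_map {N N' : K.subscheme.Modules} (f : N ⟶ N')
    (h : IsIso ((pushforward K.subschemeι).map f)) : IsIso f := by
  obtain ⟨g, hg⟩ := exists_map_eq K (inv ((pushforward K.subschemeι).map f))
  refine ⟨g, map_injective K ?_, map_injective K ?_⟩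
  · rw [Functor.map_comp, hg, IsIso.hom_inv_id, CategoryTheory.Functor.map_id]
  · rw [Functor.map_comp, hg, IsIso.inv_hom_id, CategoryTheory.Functor.map_id]

/-- Modules killed by `K` are direct images from `V(K)`. -/
theorem exists_iso_pushforward {M : X.Modules} (hM : ClSub.KilledByIdeal K M) :
    ∃ W : K.subscheme.Modules, Nonempty (M ≅ (pushforward K.subschemeι).obj W) := by
  have h := isIso_kπ K hM
  exact ⟨(pullback K.subschemeι).obj M, ⟨@asIso _ _ _ _ (kπ K M) h⟩⟩

end Closed

section Trans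

variable {X : Scheme.{u}} {K K' : X.IdealSheafData} (h : K' ≤ K)

/-- For `K' ≤ K` and an isomorphism `τ^* F' ≅ F`, `τ : V(K) ⟶ V(K')`, the map `i'_* F' ⟶ i_* F`. -/
noncomputable def ctr {F' : K'.subscheme.Modules} {F : K.subscheme.Modules}
    (a : (pullback (Scheme.IdealSheafData.inclusion h)).obj F' ⟶ F) :
    (pushforward K'.subschemeι).obj F' ⟶ (pushforward K.subschemeι).obj F :=
  tr (Scheme.IdealSheafData.inclusion h) K'.subschemeι K.subschemeι
    (Scheme.IdealSheafData.inclusion_subschemeι h) a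

theorem ctr_eq_zero {F' : K'.subscheme.Modules} {F : K.subscheme.Modules}
    (a : (pullback (Scheme.IdealSheafData.inclusion h)).obj F' ⟶ F) (H : ctr h a = 0) : a = 0 := by
  have H1 : (pushforward K'.subschemeι).map (((pullbackPushforwardAdjunction
      (Scheme.IdealSheafData.inclusion h)).homEquiv _ _) a) = 0 := by
    rw [← cancel_mono (pp (Scheme.IdealSheafData.inclusion h) K'.subschemeι K.subschemeι
      (Scheme.IdealSheafData.inclusion_subschemeι h) F).hom, Limits.zero_comp]
    exact H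
  have H2 := map_injective K' (H1.trans (Functor.map_zero _ _ _).symm)
  apply ((pullbackPushforwardAdjunction (Scheme.IdealSheafData.inclusion h)).homEquiv _ _).injective
  rw [H2, Adjunction.homEquiv_unit, Functor.map_zero, Limits.comp_zero]

theorem exists_ctr {F' : K'.subscheme.Modules} {W : K.subscheme.Modules}
    (φ : (pushforward K'.subschemeι).obj F' ⟶ (pushforward K.subschemeι).obj W) :
    ∃ b : (pullback (Scheme.IdealSheafData.inclusion h)).obj F' ⟶ W, ctr h b = φ := by
  let P := pp (Scheme.IdealSheafData.inclusion h) K'.subschemeι K.subschemeι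
      (Scheme.IdealSheafData.inclusion_subschemeι h) W
  obtain ⟨ψ, hψ⟩ := exists_map_eq K' (φ ≫ P.inv)
  refine ⟨((pullbackPushforwardAdjunction (Scheme.IdealSheafData.inclusion h)).homEquiv _ _).symm ψ, ?_⟩
  rw [ctr, tr, Equiv.apply_symm_apply, hψ, Category.assoc, Iso.inv_hom_id, Category.comp_id]

theorem ctr_comp {F' : K'.subscheme.Modules} {F F₁ : K.subscheme.Modules}
    (a : (pullback (Scheme.IdealSheafData.inclusion h)).obj F' ⟶ F) (b : F ⟶ F₁) :
    ctr h (a ≫ b) = ctr h a ≫ (pushforward K.subschemeι).map b := tr_comp _ _ _ _ a b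

/-- The map `i'_* F' ⟶ i_* F` is the quotient by `K` when `τ^* F' ≅ F`. -/
theorem isKQuot_ctr {F' : K'.subscheme.Modules} {F : K.subscheme.Modules}
    (e : (pullback (Scheme.IdealSheafData.inclusion h)).obj F' ≅ F) :
    IsKQuot K (ctr h e.hom) := by
  have key : ∀ {Z : X.Modules} (c : (pushforward K.subschemeι).obj F ⟶ Z),
      ClSub.KilledByIdeal K Z → ctr h e.hom ≫ c = 0 → c = 0 := by
    intro Z c hZ hc
    obtain ⟨W, ⟨j⟩⟩ := exists_iso_pushforward K hZ
    obtain ⟨b, hb⟩ := exists_map_eq K (c ≫ j.hom)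
    have h1 : ctr h (e.hom ≫ b) = 0 := by
      rw [ctr_comp, hb, ← Category.assoc, hc, Limits.zero_comp]
    have h2 := ctr_eq_zero h _ h1
    have h3 : b = 0 := by
      rw [← cancel_epi e.hom, h2, Limits.comp_zero]
    rw [← cancel_mono j.hom, Limits.zero_comp, ← hb, h3, Functor.map_zero]
  refine ⟨?_, killed_pushforward K F, ?_⟩
  · apply Preadditive.epi_of_isZero_cokernel
    have h1 : Limits.cokernel.π (ctr h e.hom) = 0 :=
      key _ (killedByIdeal_of_epi (Limits.cokernel.π (ctr h e.hom)) (killed_pushforward K F))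
        (Limits.cokernel.condition _)
    rw [Limits.IsZero.iff_id_eq_zero, ← cancel_epi (Limits.cokernel.π (ctr h e.hom)), h1]
    simp
  · intro Z φ hZ
    obtain ⟨W, ⟨j⟩⟩ := exists_iso_pushforward K hZ
    obtain ⟨b, hb⟩ := exists_ctr h (φ ≫ j.hom)
    refine ⟨(pushforward K.subschemeι).map (e.inv ≫ b) ≫ j.inv, ?_⟩
    rw [← Category.assoc, ← ctr_comp, e.hom_inv_id_assoc, hb, Category.assoc, Iso.hom_inv_id,
      Category.comp_id]

end Trans

section Adj

variable {X : Scheme.{u}} (K : X.IdealSheafData)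

/-- If `p : F ⟶ i_* N` is the quotient by `K`, then the adjoint `i^* F ⟶ N` is an isomorphism. -/
theorem isIso_of_isKQuot {F : X.Modules} (hF : Coh.IsQCoh F) {N : K.subscheme.Modules}
    (q : (pullback K.subschemeι).obj F ⟶ N)
    (hp : IsKQuot K (((pullbackPushforwardAdjunction K.subschemeι).homEquiv _ _) q)) : IsIso q := by
  apply isIso_of_isIso_map K
  obtain ⟨e, he, -⟩ := (isKQuot_kπ K hF).exists_iso hp
  have h1 : kπ K F ≫ (pushforward K.subschemeι).map q =
      ((pullbackPushforwardAdjunction K.subschemeι).homEquiv _ _) q := by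
    rw [Adjunction.homEquiv_unit]
    rfl
  have h0 := epi_kπ K F
  have h2 : (pushforward K.subschemeι).map q = e.hom :=
    h0.left_cancellation _ _ (h1.trans he.symm)
  rw [h2]
  exact e.isIso_hom

/-- Conversely the adjoint of an isomorphism `i^* F ≅ N` is the quotient by `K`. -/
theorem isKQuot_of_isIso {F : X.Modules} (hF : Coh.IsQCoh F) {N : K.subscheme.Modules}
    (q : (pullback K.subschemeι).obj F ⟶ N) [IsIso q] :
    IsKQuot K (((pullbackPushforwardAdjunction K.subschemeι).homEquiv _ _) q) := by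
  rw [Adjunction.homEquiv_unit]
  have h1 : IsIso ((pushforward K.subschemeι).map q) := inferInstance
  exact @IsKQuot.comp_iso _ _ _ _ _ _ (isKQuot_kπ K hF) ((pushforward K.subschemeι).map q) h1

end Adj

variable {X : Scheme.{u}} {𝓘 : X.IdealSheafData} (𝔐 : ModSys (completionAlong X 𝓘))

/-- The direct image on `X` of the `n`-th term. -/
noncomputable abbrev pm (n : ℕ) : X.Modules :=
  (pushforward (completionToX X 𝓘 n)).obj (𝔐.F n)

/-- The transition maps. -/
noncomputable def ptr (n : ℕ) : pm 𝔐 (n + 1) ⟶ pm 𝔐 n :=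
  ctr (FSch.pow_succ_le X 𝓘 n) (𝔐.e n).hom

theorem killed_pm (n : ℕ) : ClSub.KilledByIdeal (𝓘 ^ (n + 1)) (pm 𝔐 n) :=
  killed_pushforward (𝓘 ^ (n + 1)) (𝔐.F n)

theorem isKQuot_ptr (n : ℕ) : IsKQuot (𝓘 ^ (n + 1)) (ptr 𝔐 n) :=
  isKQuot_ctr (FSch.pow_succ_le X 𝓘 n) (𝔐.e n)

theorem isQCoh_pm (n : ℕ) (h : Coh.IsQCoh (𝔐.F n)) : Coh.IsQCoh (pm 𝔐 n) :=
  Sga67.CohBasic.isQCoh_push (𝓘 ^ (n + 1)).subschemeι h

/-- The inverse system of `O_X`-modules of `𝔐`. -/
noncomputable def toSys : ℕᵒᵖ ⥤ X.Modules :=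
  Functor.ofOpSequence (X := fun n => pm 𝔐 n) (ptr 𝔐)

theorem toSys_map_succ (n : ℕ) : (toSys 𝔐).map (homOfLE (Nat.le_succ n)).op = ptr 𝔐 n :=
  Functor.ofOpSequence_map_homOfLE_succ _ n

end Groth.Agent.Sga2lef.H96.ModSysPush
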